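import Cfsg.Agent.PhanSU.AutTwo

/-!
The field with four elements and the small unitary groups over it.
-/

set_option autoImplicit false
set_option linter.style.haveILetI false

open scoped Classical

namespace Cfsg.Agent.PhanSU.Two

open Cfsg.Agent.Classical.U Matrix

universe u

noncomputable section

/-- A field with four elements with a chosen primitive cube root of unity. -/
structure Four (F : Type u) [Field F] where
  hF : SqField F 2
  w : F
  hw : w ^ 2 + w + 1 = 0

variable {F : Type u} [Field F]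

namespace Four

theorem two {F : Type u} [Field F] (K : Four F) : (2 : F) = 0 := by
  obtain ⟨p, k, hp, hcp, hpk⟩ := K.hF.exists_char
  have hd : p ∣ 2 := by
    rw [hpk]
    refine dvd_pow_self p ?_
    rintro rfl
    simp at hpk
  obtain rfl : p = 2 := (Nat.prime_dvd_prime_iff_eq hp Nat.prime_two).1 hd
  exact CharP.cast_eq_zero F 2

theorem exists_four (hF : SqField F 2) : Nonempty (Four F) := by
  obtain ⟨x, hx⟩ := hF.exists_trace (c := (1 : F)) (one_pow 2)
  obtain ⟨p, k, hp, hcp, hpk⟩ := hF.exists_char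
  have hd : p ∣ 2 := by
    rw [hpk]
    refine dvd_pow_self p ?_
    rintro rfl
    simp at hpk
  obtain rfl : p = 2 := (Nat.prime_dvd_prime_iff_eq hp Nat.prime_two).1 hd
  have h2 : (2 : F) = 0 := CharP.cast_eq_zero F 2
  exact ⟨⟨hF, x, by linear_combination hx + h2⟩⟩

variable (K : Four F)
include K

theorem w_cube : K.w ^ 3 = 1 := by linear_combination (K.w - 1) * K.hw

theorem w_ne_zero : K.w ≠ 0 := fun h => by simpa [h] using K.hw

theorem w_ne_one : K.w ≠ 1 := fun h => by
  have h1 := K.hw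
  rw [h] at h1
  exact one_ne_zero (α := F) (by linear_combination h1 - K.two)

theorem w2_ne_one : K.w ^ 2 ≠ 1 := fun h => K.w_ne_one (by
  have := K.w_cube
  rw [pow_succ, h, one_mul] at this
  exact this)

theorem w2_ne_w : K.w ^ 2 ≠ K.w := fun h => K.w_ne_one (by
  have h1 : K.w * (K.w - 1) = 0 := by linear_combination h
  exact sub_eq_zero.mp ((mul_eq_zero.mp h1).resolve_left K.w_ne_zero))

theorem neg_eq (x : F) : -x = x := by linear_combination (-x) * K.two

theorem pow_three {x : F} (hx : x ≠ 0) : x ^ 3 = 1 := by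
  obtain ⟨hfin, hcard⟩ := id K.hF
  haveI := Fintype.ofFinite F
  have h := FiniteField.pow_card_sub_one_eq_one x hx
  rw [← Nat.card_eq_fintype_card, hcard] at h
  exact h

theorem nonzero_cases {x : F} (hx : x ≠ 0) : x = 1 ∨ x = K.w ∨ x = K.w ^ 2 := by
  have h : (x - 1) * ((x - K.w) * (x - K.w ^ 2)) = 0 := by
    linear_combination K.pow_three hx - (x ^ 2 - x) * K.hw + (x - 1) * K.w_cube
  rcases mul_eq_zero.mp h with h | h
  · exact Or.inl (sub_eq_zero.mp h)
  rcases mul_eq_zero.mp h with h | h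
  · exact Or.inr (Or.inl (sub_eq_zero.mp h))
  · exact Or.inr (Or.inr (sub_eq_zero.mp h))

/-- The character of the integers modulo three. -/
def chi (a : ZMod 3) : F := K.w ^ a.val

theorem chi_zero : K.chi 0 = 1 := pow_zero _

theorem chi_one : K.chi 1 = K.w := pow_one _

theorem chi_two : K.chi 2 = K.w ^ 2 := rfl

theorem chi_neg_one : K.chi (-1) = K.w ^ 2 := rfl

theorem chi_add (a b : ZMod 3) : K.chi (a + b) = K.chi a * K.chi b := by
  have h : ∀ k, K.w ^ k = K.w ^ (k % 3) := fun k => by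
    conv_lhs => rw [← Nat.div_add_mod k 3, pow_add, pow_mul, K.w_cube, one_pow, one_mul]
  rw [chi, chi, chi, ← pow_add, ZMod.val_add, ← h]

theorem chi_ne_zero (a : ZMod 3) : K.chi a ≠ 0 := pow_ne_zero _ K.w_ne_zero

theorem chi_inj {a b : ZMod 3} (h : K.chi a = K.chi b) : a = b := by
  have key : ∀ c : ZMod 3, K.chi c = 1 → c = 0 := fun c hc => by
    have : c = 0 ∨ c = 1 ∨ c = 2 := by clear hc; revert c; decide
    rcases this with rfl | rfl | rfl
    · rfl
    · exact absurd (K.chi_one.symm.trans hc) K.w_ne_one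
    · exact absurd (K.chi_two.symm.trans hc) K.w2_ne_one
  have h1 : K.chi (a - b) = 1 := mul_right_cancel₀ (K.chi_ne_zero b) (by
    rw [← K.chi_add, sub_add_cancel, one_mul, h])
  exact sub_eq_zero.mp (key _ h1)

theorem exists_chi {x : F} (hx : x ≠ 0) : ∃ a, x = K.chi a := by
  rcases K.nonzero_cases hx with h | h | h
  · exact ⟨0, h.trans K.chi_zero.symm⟩
  · exact ⟨1, h.trans K.chi_one.symm⟩
  · exact ⟨2, h.trans K.chi_two.symm⟩

theorem exists_tor_el {x : F} (hx : x ≠ 0) :
    ∃ d : Cfsg.SU 2 F 2, sm d = !![x, 0; 0, x ^ 2] := by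
  obtain ⟨d, hd⟩ := exists_su2 K.hF (a := x) (b := 0) (by linear_combination K.pow_three hx)
  exact ⟨d, by rw [hd]; simp⟩

/-- The diagonal element of order three. -/
def c : Cfsg.SU 2 F 2 := Classical.choose (K.exists_tor_el K.w_ne_zero)

theorem sm_c : sm K.c = !![K.w, 0; 0, K.w ^ 2] := Classical.choose_spec (K.exists_tor_el K.w_ne_zero)

theorem exists_swap : ∃ d : Cfsg.SU 2 F 2, sm d = !![0, 1; 1, 0] := by
  obtain ⟨d, hd⟩ := exists_su2 K.hF (a := (0 : F)) (b := 1) (by simp)
  exact ⟨d, by rw [hd]; simp [K.neg_eq]⟩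

/-- The involution. -/
def t : Cfsg.SU 2 F 2 := Classical.choose K.exists_swap

theorem sm_t : sm K.t = !![0, 1; 1, 0] := Classical.choose_spec K.exists_swap

theorem su2_top (E : Subgroup (Cfsg.SU 2 F 2)) (hc : K.c ∈ E) (ht : K.t ∈ E) (x : Cfsg.SU 2 F 2) :
    x ∈ E := by
  have hd : ∀ y : Cfsg.SU 2 F 2, sm y 0 1 = 0 → sm y 0 0 ≠ 0 → y ∈ E := by
    intro y h1 h0
    have e : ∀ k : ℕ, sm (K.c ^ k) 0 0 = K.w ^ k ∧ sm (K.c ^ k) 0 1 = 0 := by
      intro k
      induction k with
      | zero => simp [sm_one]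
      | succ k ih =>
        rw [pow_succ, sm_mul, K.sm_c]
        simp [Matrix.mul_apply, Fin.sum_univ_two, ih.1, ih.2, pow_succ]
    obtain ⟨a, ha⟩ := K.exists_chi h0
    rw [su2_ext K.hF (y := K.c ^ a.val) (ha.trans (e a.val).1.symm) (h1.trans (e a.val).2.symm)]
    exact pow_mem hc _
  obtain ⟨-, -, h3⟩ := su2_form K.hF x
  by_cases hb : sm x 0 1 = 0
  · refine hd x hb fun ha => ?_
    rw [ha, hb] at h3
    simp at h3
  · have ha : sm x 0 0 = 0 := by
      by_contra ha
      have e1 := K.pow_three ha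
      have e2 := K.pow_three hb
      exact one_ne_zero (α := F) (by linear_combination h3 - e1 - e2)
    have hxt := hd (x * K.t) (by rw [sm_mul, K.sm_t]; simp [Matrix.mul_apply, Fin.sum_univ_two, ha])
      (by rw [sm_mul, K.sm_t]; simp [Matrix.mul_apply, Fin.sum_univ_two, hb])
    exact (Subgroup.mul_mem_cancel_right E ht).mp hxt

theorem sm_c01 : sm (e01 K.c) = Matrix.diagonal ![K.w, K.w ^ 2, 1] := by
  rw [sm_e01, K.sm_c]
  ext i j
  fin_cases i <;> fin_cases j <;> simp

theorem sm_c12 : sm (e12 K.c) = Matrix.diagonal ![1, K.w, K.w ^ 2] := by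
  rw [sm_e12, K.sm_c]
  ext i j
  fin_cases i <;> fin_cases j <;> simp

theorem sm_t01 : sm (e01 K.t) = !![0, 1, 0; 1, 0, 0; 0, 0, 1] := by
  rw [sm_e01, K.sm_t]
  simp

theorem sm_t12 : sm (e12 K.t) = !![1, 0, 0; 0, 0, 1; 0, 1, 0] := by
  rw [sm_e12, K.sm_t]
  simp

end Four

end

end Cfsg.Agent.PhanSU.Two
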