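import Mathlib

/-!
Eigenvalue exponents of three commuting elements of order three in dimension four.
-/

set_option autoImplicit false
set_option linter.style.longLine false

namespace Cfsg.Agent.PhanSU.Two.Comb

/-- Four exponents. -/
abbrev Ex := Fin 4 → ZMod 3

/-- The number of entries with a given value. -/
def cnt (v : Ex) (a : ZMod 3) : ℕ :=
  (if v 0 = a then 1 else 0) + (if v 1 = a then 1 else 0) + (if v 2 = a then 1 else 0) +
    (if v 3 = a then 1 else 0)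

/-- The parity of the number of entries equal to one. -/
def par (v : Ex) : ℕ := cnt v 1 % 2

/-- Determinant one and trace in the prime field. -/
def Ok (v : Ex) : Prop := v 0 + v 1 + v 2 + v 3 = 0 ∧ cnt v 1 % 2 = cnt v 2 % 2

instance (v : Ex) : Decidable (Ok v) := inferInstanceAs (Decidable (_ ∧ _))

theorem cnt_perm (v : Ex) (π : Equiv.Perm (Fin 4)) (a : ZMod 3) : cnt (v ∘ π) a = cnt v a := by
  have h : ∀ w : Ex, cnt w a = ∑ i, if w i = a then 1 else 0 := fun w => by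
    simp only [cnt, Fin.sum_univ_four]
  rw [h, h]
  exact Equiv.sum_comp π fun i => if v i = a then 1 else 0

theorem ok_perm {v : Ex} (π : Equiv.Perm (Fin 4)) (h : Ok v) : Ok (v ∘ π) := by
  refine ⟨?_, by rw [cnt_perm, cnt_perm]; exact h.2⟩
  have e := Equiv.sum_comp π v
  simp only [Fin.sum_univ_four] at e
  exact e.trans h.1

theorem par_perm (v : Ex) (π : Equiv.Perm (Fin 4)) : par (v ∘ π) = par v := by
  rw [par, par, cnt_perm]

/-- The constraints on a consecutive pair. -/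
def Pair (A B : Ex) : Prop :=
  A ≠ 0 ∧ B ≠ 0 ∧ A ≠ B ∧ A + B ≠ 0 ∧ Ok A ∧ Ok B ∧ Ok (-(A + B)) ∧ par A = par B ∧
    par (-(A + B)) = par A

instance (A B : Ex) : Decidable (Pair A B) := inferInstanceAs (Decidable (_ ∧ _))

theorem pair_perm {A B : Ex} (π : Equiv.Perm (Fin 4)) (h : Pair A B) : Pair (A ∘ π) (B ∘ π) := by
  obtain ⟨h1, h2, h3, h4, h5, h6, h7, h8, h9⟩ := h
  have hinj : ∀ {u w : Ex}, u ∘ π = w ∘ π → u = w := fun e => funext fun i => by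
    simpa using congrFun e (π.symm i)
  refine ⟨fun e => h1 (hinj (e.trans rfl)), fun e => h2 (hinj (e.trans rfl)), fun e => h3 (hinj e),
    fun e => h4 (hinj (e.trans rfl)), ok_perm π h5, ok_perm π h6, ?_, ?_, ?_⟩
  · exact ok_perm π h7
  · rw [par_perm, par_perm]; exact h8
  · rw [par_perm]
    exact (par_perm (-(A + B)) π).trans h9

theorem normA : ∀ a b c d : ZMod 3, Ok ![a, b, c, d] → ![a, b, c, d] ≠ 0 →
    ∃ π : Equiv.Perm (Fin 4), ![a, b, c, d] ∘ π = ![1, 2, 0, 0] ∨ ![a, b, c, d] ∘ π = ![1, 1, 2, 2] := by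
  decide +kernel

theorem normB1 : ∀ a b c d : ZMod 3, Pair ![1, 2, 0, 0] ![a, b, c, d] →
    ∃ (π : Equiv.Perm (Fin 4)) (ε : ZMod 3), ε ≠ 0 ∧ (![1, 2, 0, 0] : Ex) ∘ π = ![ε, -ε, 0, 0] ∧
      ![a, b, c, d] ∘ π = ![0, ε, -ε, 0] := by
  decide +kernel

theorem normB2 : ∀ a b c d : ZMod 3, ¬ Pair ![1, 1, 2, 2] ![a, b, c, d] := by
  decide +kernel

theorem normC : ∀ ε : ZMod 3, ε ≠ 0 → ∀ a b c d : ZMod 3, Pair ![0, ε, -ε, 0] ![a, b, c, d] →
    a = b → ![a, b, c, d] = ![0, 0, ε, -ε] := by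
  decide +kernel

theorem eta4 (v : Ex) : v = ![v 0, v 1, v 2, v 3] := by
  funext i; fin_cases i <;> rfl

/-- The normal form. -/
theorem normal_form {A B C : Ex} (h1 : Pair A B) (h2 : Pair B C)
    (h : ∀ i j, (∀ k, A i + A k = 0 → k = j) → C i = C j) :
    ∃ (π : Equiv.Perm (Fin 4)) (ε : ZMod 3), ε ≠ 0 ∧ A ∘ π = ![ε, -ε, 0, 0] ∧
      B ∘ π = ![0, ε, -ε, 0] ∧ C ∘ π = ![0, 0, ε, -ε] := by
  obtain ⟨π₁, hπ₁⟩ := normA (A 0) (A 1) (A 2) (A 3) (eta4 A ▸ h1.2.2.2.2.1) (eta4 A ▸ h1.1)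
  rw [← eta4 A] at hπ₁
  have p1 := pair_perm π₁ h1
  rcases hπ₁ with e | e
  swap
  · rw [e, eta4 (B ∘ π₁)] at p1
    exact absurd p1 (normB2 _ _ _ _)
  rw [e, eta4 (B ∘ π₁)] at p1
  obtain ⟨π₂, ε, hε, hA, hB⟩ := normB1 _ _ _ _ p1
  rw [← e] at hA
  rw [← eta4 (B ∘ π₁)] at hB
  refine ⟨π₂.trans π₁, ε, hε, hA, hB, ?_⟩
  have eA : A ∘ (π₂.trans π₁) = ![ε, -ε, 0, 0] := hA
  have p2 := pair_perm (π₂.trans π₁) h2
  rw [show B ∘ (π₂.trans π₁) = ![0, ε, -ε, 0] from hB, eta4 (C ∘ (π₂.trans π₁))] at p2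
  have hu : ∀ ε : ZMod 3, ε ≠ 0 → ∀ k : Fin 4,
      (![ε, -ε, 0, 0] : Ex) 0 + (![ε, -ε, 0, 0] : Ex) k = 0 → k = 1 := by decide +kernel
  have hc := h ((π₂.trans π₁) 0) ((π₂.trans π₁) 1) fun k hk => by
    obtain ⟨k, rfl⟩ := (π₂.trans π₁).surjective k
    rw [hu ε hε k (by rw [← eA]; exact hk)]
  have := normC ε hε _ _ _ _ p2 hc
  rwa [← eta4] at this

end Cfsg.Agent.PhanSU.Two.Comb
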