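import Cfsg.Agent.PhanSU.Amalgam

/-!
Phan amalgam data over the field with four elements: the triples enter as generators.
-/

set_option autoImplicit false
set_option linter.style.haveILetI false

open scoped Classical

namespace Cfsg.Agent.PhanSU.Two

open Cfsg.Agent.Classical.U

universe u v

noncomputable section

variable {F : Type u} [Field F] {n q : ℕ} {H : Type v} [Group H]

/-- Characteristic two. -/
theorem two_eq_zero (hF : SqField F q) (hq : q = 2) : (2 : F) = 0 := by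
  obtain ⟨p, k, hp, hcp, hpk⟩ := hF.exists_char
  have h : p = 2 := by
    rw [hq] at hpk
    have hd : p ∣ 2 := by
      rw [hpk]
      refine dvd_pow_self p ?_
      rintro rfl
      simp at hpk
    exact (Nat.prime_dvd_prime_iff_eq hp Nat.prime_two).1 hd
  subst h
  exact CharP.cast_eq_zero F 2

/-- Phan amalgam data with pairs, triples and quadruples. -/
structure Data (F : Type u) [Field F] (q n : ℕ) (H : Type v) [Group H] where
  hF : SqField F q
  hq : q = 2
  four_le : 4 ≤ n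
  GU : ℕ → Subgroup (H × Sug (n + 1) F q)
  GP : ℕ → Subgroup (H × Sug (n + 1) F q)
  GU_mem : ∀ i, i < n → ∀ x ∈ GU i, x.2 ∈ fixT (pairT n i)
  GU_lift : ∀ i, i < n → ∀ g ∈ (fixT (pairT n i) : Subgroup (Sug (n + 1) F q)),
    ∃ x ∈ GU i, x.2 = g
  GP_mem : ∀ i, i + 1 < n → ∀ x ∈ GP i, x.2 ∈ fixT (tripT n i)
  GP_lift : ∀ i, i + 1 < n → ∀ g ∈ (fixT (tripT n i) : Subgroup (Sug (n + 1) F q)),
    ∃ x ∈ GP i, x.2 = g
  le0 : ∀ i, i + 1 < n → GU i ≤ GP i
  le1 : ∀ i, i + 1 < n → GU (i + 1) ≤ GP i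
  farUU : ∀ i j, i + 2 ≤ j → j < n → ∀ x ∈ GU i, ∀ y ∈ GU j, Commute x y
  farUP : ∀ i j, i + 2 ≤ j → j + 1 < n → ∀ x ∈ GU i, ∀ y ∈ GP j, Commute x y
  farPU : ∀ i j, i + 3 ≤ j → j < n → ∀ x ∈ GP i, ∀ y ∈ GU j, Commute x y
  farPP : ∀ i j, i + 3 ≤ j → j + 1 < n → ∀ x ∈ GP i, ∀ y ∈ GP j, Commute x y
  quad : ∀ i, i + 2 < n → Func (GP i ⊔ GP (i + 1))

namespace Data

variable (D : Data F q n H)

/-- The subgroup generated by the lifts of index at least `k`. -/
def Lk (k : ℕ) : Subgroup (H × Sug (n + 1) F q) :=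
  Subgroup.closure {x | (∃ i, k ≤ i ∧ i < n ∧ x ∈ D.GU i) ∨ (∃ i, k ≤ i ∧ i + 1 < n ∧ x ∈ D.GP i)}

theorem GU_le_Lk {k i : ℕ} (h : k ≤ i) (hi : i < n) : D.GU i ≤ D.Lk k :=
  fun _ hx => Subgroup.subset_closure (Or.inl ⟨i, h, hi, hx⟩)

theorem GP_le_Lk {k i : ℕ} (h : k ≤ i) (hi : i + 1 < n) : D.GP i ≤ D.Lk k :=
  fun _ hx => Subgroup.subset_closure (Or.inr ⟨i, h, hi, hx⟩)

theorem Lk_le {k : ℕ} {L : Subgroup (H × Sug (n + 1) F q)}
    (hU : ∀ i, k ≤ i → i < n → D.GU i ≤ L) (hP : ∀ i, k ≤ i → i + 1 < n → D.GP i ≤ L) :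
    D.Lk k ≤ L :=
  (Subgroup.closure_le _).mpr fun x hx => by
    rcases hx with ⟨i, h, hi, hx⟩ | ⟨i, h, hi, hx⟩
    exacts [hU i h hi hx, hP i h hi hx]

theorem Lk_antitone {k k' : ℕ} (h : k ≤ k') : D.Lk k' ≤ D.Lk k :=
  D.Lk_le (fun _ hj hi => D.GU_le_Lk (h.trans hj) hi) fun _ hj hi => D.GP_le_Lk (h.trans hj) hi

theorem tripT_subset_tailT {k i : ℕ} (h : k ≤ i) : tripT n i ⊆ tailT n k := fun l hl =>
  mem_tailT.mpr (h.trans (Finset.mem_filter.mp hl).2.1)

theorem snd_mem {k : ℕ} {x : H × Sug (n + 1) F q} (hx : x ∈ D.Lk k) :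
    x.2 ∈ fixT (tailT n k) :=
  (D.Lk_le (L := (fixT (tailT n k)).comap (MonoidHom.snd H (Sug (n + 1) F q)))
    (fun i hki hi _ hy => fixT_mono (pairT_subset_tailT hki) (D.GU_mem i hi _ hy))
    (fun i hki hi _ hy => fixT_mono (tripT_subset_tailT hki) (D.GP_mem i hi _ hy)) hx : _)

/-- The properties established by induction. -/
structure Good (k : ℕ) : Prop where
  func : Func (D.Lk k)
  surj : ∀ g ∈ (fixT (tailT n k) : Subgroup (Sug (n + 1) F q)), ∃ x ∈ D.Lk k, x.2 = g

variable {k : ℕ}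

theorem exists_plane_lift (hk : k < n) {v : Fin (n + 1) → F} (hv : v ∈ supp (pairT n k))
    (h1 : herm q v v = 1) : ∃ s ∈ D.GU k, app s.2 (bas F n k) = v := by
  obtain ⟨g, hg, he⟩ := exists_fixT_map D.hF (one_lt_card_pairT hk)
    (bas_mem_pair hk.le (Or.inl rfl)) hv (bas_unit D.hF hk.le) h1
  obtain ⟨x, hx, rfl⟩ := D.GU_lift k hk g hg
  exact ⟨x, hx, he⟩

theorem exists_tail_lift {j : ℕ} (hj : j < n) (good : D.Good j) {v : Fin (n + 1) → F}
    (hv : v ∈ supp (tailT n j)) (h1 : herm q v v = 1) :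
    ∃ g ∈ D.Lk j, app g.2 (bas F n j) = v := by
  obtain ⟨g, hg, he⟩ := exists_fixT_map D.hF (one_lt_card_tailT hj)
    (bas_mem_tail hj.le le_rfl) hv (bas_unit D.hF hj.le) h1
  obtain ⟨x, hx, rfl⟩ := good.surj g hg
  exact ⟨x, hx, he⟩

theorem exists_rep (hk : k + 1 < n) (good : D.Good (k + 1)) {v : Fin (n + 1) → F}
    (hv : v ∈ supp (tailT n k)) (hv1 : herm q v v = 1) (hA : PData.IsA n k q v) :
    ∃ g ∈ D.Lk (k + 1), ∃ s ∈ D.GU k, app (g * s).2 (bas F n k) = v := by
  have hk' : k < n := by omega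
  set x := herm q v (bas F n k) with hx
  have hdec := herm_decomp D.hF hk' hv hv
  have hvk : v = x • bas F n k + offPart n k v := by
    rw [offPart_eq hk'.le, hx, herm_bas D.hF hk'.le, add_sub_cancel]
  rcases hA with h0 | hne
  · rw [hv1, h0, herm_zero_left, add_zero, ← hx] at hdec
    obtain ⟨s, hs, hse⟩ := D.exists_plane_lift hk' (v := x • bas F n k)
      ((supp _).smul_mem x (bas_mem_pair hk'.le (Or.inl rfl)))
      (by rw [herm_smul_left, herm_smul_right, bas_unit D.hF hk'.le, mul_one, ← hdec])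
    refine ⟨1, one_mem _, s, hs, ?_⟩
    rw [one_mul, hse]
    conv_rhs => rw [hvk, h0, add_zero]
  · set w := offPart n k v with hw
    obtain ⟨c, hc, hc1⟩ := exists_scale D.hF hne
    obtain ⟨g, hg, hge⟩ := D.exists_tail_lift hk good
      ((supp _).smul_mem c (offPart_mem hk'.le hv)) hc1
    have he1 := herm_bas_tail D.hF hk' (bas_mem_tail (F := F) (j := k + 1) hk.le le_rfl)
    obtain ⟨s, hs, hse⟩ := D.exists_plane_lift hk'
      (v := x • bas F n k + c⁻¹ • bas F n (k + 1))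
      ((supp _).add_mem ((supp _).smul_mem x (bas_mem_pair hk'.le (Or.inl rfl)))
        ((supp _).smul_mem _ (bas_mem_pair hk.le (Or.inr rfl)))) (by
      have hcc : c⁻¹ * c⁻¹ ^ q = herm q w w := by
        rw [herm_smul_left, herm_smul_right] at hc1
        rw [inv_pow, ← mul_inv]
        exact inv_eq_of_mul_eq_one_right (by linear_combination hc1)
      simp only [herm_add_left, D.hF.herm_add_right, herm_smul_left, herm_smul_right,
        bas_unit D.hF hk'.le, bas_unit D.hF hk.le, he1.1, he1.2, mul_zero, add_zero, zero_add,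
        mul_one]
      rw [hv1, ← hx] at hdec
      linear_combination (-1 : F) * hdec + hcc)
    refine ⟨g, hg, s, hs, ?_⟩
    have hfix : app g.2 (bas F n k) = bas F n k :=
      fix_bas (D.snd_mem hg) hk'.le (by simp [mem_tailT])
    rw [Prod.snd_mul, app_mul, hse, app_add, app_smul, app_smul, hfix, hge, smul_smul,
      inv_mul_cancel₀ hc, one_smul]
    exact hvk.symm

theorem exists_trip_lift (hk : k + 1 < n) {l : ℕ} (hl : k ≤ l) (hl' : l ≤ k + 2)
    {v : Fin (n + 1) → F} (hv : v ∈ supp (tripT n k)) (h1 : herm q v v = 1) :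
    ∃ y ∈ D.GP k, app y.2 (bas F n l) = v := by
  have hb : bas F n l ∈ supp (tripT n k) := by
    rw [bas_eq (by omega : l ≤ n)]
    exact dd_mem_supp (by simp [tripT]; omega)
  have hc : 1 < (tripT n k).card :=
    lt_of_lt_of_le (one_lt_card_pairT (n := n) (i := k) (by omega))
      (Finset.card_le_card fun m hm => by
        rcases mem_pairT.mp hm with e | e <;> simp [tripT] <;> omega)
  obtain ⟨g, hg, he⟩ := exists_fixT_map D.hF hc hb hv (bas_unit D.hF (by omega)) h1
  obtain ⟨x, hx, rfl⟩ := D.GP_lift k hk g hg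
  exact ⟨x, hx, he⟩

theorem exists_trip_form (hk : k + 2 < n) (good1 : D.Good (k + 1)) (good2 : D.Good (k + 2))
    {v : Fin (n + 1) → F} (hv : v ∈ supp (tailT n k)) (hA : ¬ PData.IsA n k q v) :
    ∃ g ∈ D.Lk (k + 1), app g.2⁻¹ v ∈ supp (tripT n k) := by
  have hF := D.hF
  rw [PData.IsA, not_or, not_not] at hA
  obtain ⟨hw0, hw⟩ := hA
  set w := offPart n k v with hwdef
  obtain ⟨p1, hp1, -, hp1w, hp11⟩ := exists_prescribed hF (isON_empty hF) (T := tailT n (k + 1))
    (fun p hp => absurd hp (Finset.notMem_empty p)) (offPart_mem (by omega) hv) hw0 hw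
    (fun p hp => absurd hp (Finset.notMem_empty p)) one_ne_zero (one_pow q)
  have hwp1 : herm q w p1 = 1 := by rw [← hF.herm_symm, hp1w, one_pow]
  have h2 : (2 : F) = 0 := two_eq_zero hF D.hq
  have hp22 : herm q (w - p1) (w - p1) = 1 := by
    rw [herm_sub_left, hF.herm_sub_right, hF.herm_sub_right, hw, hp1w, hwp1, hp11]
    linear_combination (-1 : F) * h2
  have hp21 : herm q (w - p1) p1 = 0 := by rw [herm_sub_left, hwp1, hp11, sub_self]
  obtain ⟨g, hg, hge⟩ := D.exists_tail_lift (show k + 1 < n by omega) good1 hp1 hp11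
  have hg2 := D.snd_mem hg
  set p2 := app g.2⁻¹ (w - p1) with hp2
  have hp2m : p2 ∈ supp (tailT n (k + 1 + 1)) := by
    have h3 := offPart_mem (show k + 1 ≤ n by omega)
      (app_mem_supp hF (inv_mem hg2) (sub_mem (offPart_mem (show k ≤ n by omega) hv) hp1))
    rwa [offPart_eq' hF (show k + 1 ≤ n by omega), show herm q (app g.2⁻¹ (w - p1))
      (bas F n (k + 1)) = 0 by rw [← app_herm g.2, app_app_inv, hge]; exact hp21, zero_smul,
      sub_zero] at h3
  obtain ⟨g', hg', hge'⟩ := D.exists_tail_lift hk good2 hp2m (by rw [hp2, app_herm]; exact hp22)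
  refine ⟨g * g', mul_mem hg (D.Lk_antitone (by omega) hg'), ?_⟩
  have e0 : app (g * g').2 (bas F n k) = bas F n k :=
    fix_bas (D.snd_mem (mul_mem hg (D.Lk_antitone (by omega) hg'))) (by omega) (by simp [mem_tailT])
  have e1 : app (g * g').2 (bas F n (k + 1)) = p1 := by
    rw [Prod.snd_mul, app_mul, fix_bas (D.snd_mem hg') (by omega) (by simp [mem_tailT]), hge]
  have e2 : app (g * g').2 (bas F n (k + 2)) = w - p1 := by
    rw [Prod.snd_mul, app_mul, hge', hp2, app_app_inv]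
  have hvk : v = herm q v (bas F n k) • bas F n k + w := by
    rw [hwdef, offPart_eq' hF (by omega), add_sub_cancel]
  have hsum : app (g * g').2 (herm q v (bas F n k) • bas F n k + (bas F n (k + 1) + bas F n (k + 2)))
      = v := by
    rw [app_add, app_add, app_smul, e0, e1, e2, add_sub_cancel]; exact hvk.symm
  rw [← hsum, app_inv_app]
  have hm : ∀ l, k ≤ l → l ≤ k + 2 → bas F n l ∈ supp (tripT n k) := fun l h h' => by
    rw [bas_eq (by omega : l ≤ n)]
    exact dd_mem_supp (by simp [tripT]; omega)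
  exact (supp _).add_mem ((supp _).smul_mem _ (hm _ le_rfl (by omega)))
    ((supp _).add_mem (hm _ (by omega) (by omega)) (hm _ (by omega) le_rfl))

theorem exists_lift_unit (hk : k + 2 < n) (good1 : D.Good (k + 1)) (good2 : D.Good (k + 2))
    {v : Fin (n + 1) → F} (hv : v ∈ supp (tailT n k)) (hv1 : herm q v v = 1) :
    ∃ x ∈ D.Lk k, app x.2 (bas F n k) = v := by
  by_cases hA : PData.IsA n k q v
  · obtain ⟨g, hg, s, hs, he⟩ := D.exists_rep (by omega) good1 hv hv1 hA
    exact ⟨g * s, mul_mem (D.Lk_antitone k.le_succ hg) (D.GU_le_Lk le_rfl (by omega) hs), he⟩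
  obtain ⟨g, hg, hgv⟩ := D.exists_trip_form hk good1 good2 hv hA
  obtain ⟨y, hy, hye⟩ := D.exists_trip_lift (show k + 1 < n by omega) le_rfl (by omega) hgv
    (by rw [app_herm]; exact hv1)
  exact ⟨g * y, mul_mem (D.Lk_antitone k.le_succ hg) (D.GP_le_Lk le_rfl (by omega) hy),
    by rw [Prod.snd_mul, app_mul, hye, app_app_inv]⟩

theorem surj_of_good (hk : k + 2 < n) (good : D.Good (k + 1))
    (good2 : D.Good (k + 2)) :
    ∀ g ∈ (fixT (tailT n k) : Subgroup (Sug (n + 1) F q)), ∃ x ∈ D.Lk k, x.2 = g := by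
  intro g hg
  have hk' : k < n := by omega
  obtain ⟨x, hx, hxe⟩ := D.exists_lift_unit hk good good2 (app_mem_supp D.hF hg (bas_mem_tail hk'.le le_rfl))
    (by rw [app_herm]; exact bas_unit D.hF hk'.le)
  have h : x.2⁻¹ * g ∈ fixT (tailT n (k + 1)) := by
    intro l hl
    rw [mem_tailT, not_le] at hl
    by_cases hlk : (l : ℕ) = k
    · have : dd l = bas F n k := by rw [bas_eq hk'.le]; congr 1; exact Fin.ext hlk
      rw [app_mul, this, ← hxe, app_inv_app]
    · exact mem_fixT.mp (mul_mem (inv_mem (D.snd_mem hx)) hg) l (by rw [mem_tailT]; omega)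
  obtain ⟨y, hy, hye⟩ := good.surj _ h
  exact ⟨x * y, mul_mem hx (D.Lk_antitone k.le_succ hy), by rw [Prod.snd_mul, hye]; group⟩

theorem good_last : D.Good (n - 1) := by
  have h4 := D.four_le
  have hle : D.Lk (n - 1) ≤ D.GU (n - 1) := D.Lk_le
    (fun i h hi => by obtain rfl : i = n - 1 := by omega
                      exact le_rfl)
    (fun i h hi => absurd hi (by omega))
  refine ⟨((D.quad (n - 3) (by omega)).mono le_sup_right).mono (hle.trans ?_), fun g hg => ?_⟩
  · have := D.le1 (n - 3 + 1) (by omega)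
    rwa [show n - 3 + 1 + 1 = n - 1 by omega] at this
  have hT : tailT n (n - 1) = pairT n (n - 1) := by
    ext l; rw [mem_tailT, mem_pairT]; omega
  obtain ⟨x, hx, he⟩ := D.GU_lift (n - 1) (by omega) g (hT ▸ hg)
  exact ⟨x, D.GU_le_Lk le_rfl (by omega) hx, he⟩

theorem good_pair : D.Good (n - 2) := by
  have h4 := D.four_le
  have hle : D.Lk (n - 2) ≤ D.GP (n - 2) := D.Lk_le
    (fun i h hi => by
      by_cases he : i = n - 2
      · exact he ▸ D.le0 (n - 2) (by omega)
      · have := D.le1 (n - 2) (by omega)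
        rwa [show n - 2 + 1 = i by omega] at this)
    (fun i h hi => by obtain rfl : i = n - 2 := by omega
                      exact le_rfl)
  refine ⟨((D.quad (n - 3) (by omega)).mono le_sup_right).mono (hle.trans ?_), fun g hg => ?_⟩
  · rw [show n - 3 + 1 = n - 2 by omega]
  have hT : tailT n (n - 2) = tripT n (n - 2) := by
    ext l; rw [mem_tailT]; simp [tripT]; omega
  obtain ⟨x, hx, he⟩ := D.GP_lift (n - 2) (by omega) g (hT ▸ hg)
  exact ⟨x, D.GP_le_Lk le_rfl (by omega) hx, he⟩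

theorem good_quad : D.Good (n - 3) := by
  have h4 := D.four_le
  have e1 : n - 3 + 1 = n - 2 := by omega
  have e2 : n - 3 + 2 = n - 1 := by omega
  refine ⟨(D.quad (n - 3) (by omega)).mono ?_,
    D.surj_of_good (by omega) (e1 ▸ D.good_pair) (e2 ▸ D.good_last)⟩
  have hP : ∀ i, n - 3 ≤ i → i + 1 < n → D.GP i ≤ D.GP (n - 3) ⊔ D.GP (n - 3 + 1) := fun i h hi => by
    by_cases he : i = n - 3
    · exact he ▸ le_sup_left
    · obtain rfl : i = n - 3 + 1 := by omega
      exact le_sup_right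
  refine D.Lk_le (fun i h hi => ?_) hP
  by_cases he : i + 1 < n
  · exact (D.le0 i he).trans (hP i h he)
  · have := (D.le1 (i - 1) (by omega)).trans (hP (i - 1) (by omega) (by omega))
    rwa [show i - 1 + 1 = i by omega] at this

end Data

end

end Cfsg.Agent.PhanSU.Two
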