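import Cfsg.Agent.PhanSU.Main
import Cfsg.Agent.PhanSU.Two.Data

/-!
The induction step over the field with four elements: distant triples commute, so the lifts of
units with isotropic offset do not depend on the neighbour.
-/

set_option autoImplicit false
set_option linter.style.haveILetI false

open scoped Classical

namespace Cfsg.Agent.PhanSU.Two

open Cfsg.Agent.Classical.U

universe u v

noncomputable section

variable {F : Type u} [Field F] {n q : ℕ} {H : Type v} [Group H]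

/-- The situation of the induction step. -/
structure Ctx (F : Type u) [Field F] (q n : ℕ) (H : Type v) [Group H] where
  D : Data F q n H
  k : ℕ
  hk : k + 4 ≤ n
  good1 : D.Good (k + 1)
  good2 : D.Good (k + 2)
  good3 : D.Good (k + 3)

namespace Ctx

variable (C : Ctx F q n H)

theorem lt0 : C.k < n := by have := C.hk; omega
theorem lt1 : C.k + 1 < n := by have := C.hk; omega
theorem lt3 : C.k + 3 < n := by have := C.hk; omega
theorem le3 : C.k + 3 ≤ n := by have := C.hk; omega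
theorem le2 : C.k + 2 ≤ n := by have := C.hk; omega
theorem lt2 : C.k + 2 < n := by have := C.hk; omega

/-- The base vector. -/
abbrev e : Fin (n + 1) → F := bas F n C.k

/-- The second vector. -/
abbrev e1 : Fin (n + 1) → F := bas F n (C.k + 1)

/-- The third vector. -/
abbrev e2 : Fin (n + 1) → F := bas F n (C.k + 2)

/-- The stabiliser from the smaller rank. -/
abbrev L1 : Subgroup (H × Sug (n + 1) F q) := C.D.Lk (C.k + 1)

/-- The ambient lift group. -/
abbrev L0 : Subgroup (H × Sug (n + 1) F q) := C.D.Lk C.k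

/-- The first rank two piece. -/
abbrev P01 : Subgroup (H × Sug (n + 1) F q) := C.D.GP C.k

/-- The fourth vector. -/
abbrev e3 : Fin (n + 1) → F := bas F n (C.k + 3)

/-- The cosets. -/
abbrev Q : Type _ := (H × Sug (n + 1) F q) ⧸ C.L1

/-- Units of the space of the step. -/
def Unit' (v : Fin (n + 1) → F) : Prop := v ∈ supp (tailT n C.k) ∧ herm q v v = 1

/-- Units of the smaller space. -/
def UnitW (v : Fin (n + 1) → F) : Prop := v ∈ supp (tailT n (C.k + 1)) ∧ herm q v v = 1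

theorem UnitW.unit {C : Ctx F q n H} {v : Fin (n + 1) → F} (h : C.UnitW v) : C.Unit' v :=
  ⟨supp_mono (tailT_antitone C.k.le_succ) h.1, h.2⟩

theorem L1_le : C.L1 ≤ C.L0 := C.D.Lk_antitone C.k.le_succ

theorem GU0_le : C.D.GU C.k ≤ C.L0 := C.D.GU_le_Lk le_rfl C.lt0

theorem GU1_le : C.D.GU (C.k + 1) ≤ C.L1 := C.D.GU_le_Lk le_rfl C.lt1

theorem P01_le : C.P01 ≤ C.L0 := C.D.GP_le_Lk le_rfl C.lt1

theorem L1_fix {g : H × Sug (n + 1) F q} (hg : g ∈ C.L1) : app g.2 C.e = C.e :=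
  fix_bas (C.D.snd_mem hg) C.lt0.le (by simp [mem_tailT])

theorem GU1_fix {t : H × Sug (n + 1) F q} (ht : t ∈ C.D.GU (C.k + 1)) : app t.2 C.e = C.e :=
  C.L1_fix (C.GU1_le ht)

theorem GU0_fix_e2 {s : H × Sug (n + 1) F q} (hs : s ∈ C.D.GU C.k) : app s.2 C.e2 = C.e2 :=
  fix_bas (C.D.GU_mem _ C.lt0 s hs) C.le2 (by simp [mem_pairT])

theorem L2_comm {g s : H × Sug (n + 1) F q} (hg : g ∈ C.D.Lk (C.k + 2))
    (hs : s ∈ C.D.GU C.k) : Commute s g :=
  commute_of_closure (fun y hy => by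
    rcases hy with ⟨i, hi, hin, hy⟩ | ⟨i, hi, hin, hy⟩
    · exact C.D.farUU C.k i hi hin s hs y hy
    · exact C.D.farUP C.k i hi hin s hs y hy) hg

theorem L3_comm {g s : H × Sug (n + 1) F q} (hg : g ∈ C.D.Lk (C.k + 3))
    (hs : s ∈ C.D.GP C.k) : Commute s g :=
  commute_of_closure (fun y hy => by
    rcases hy with ⟨i, hi, hin, hy⟩ | ⟨i, hi, hin, hy⟩
    · exact C.D.farPU C.k i hi hin s hs y hy
    · exact C.D.farPP C.k i hi hin s hs y hy) hg

/-- The quadruple. -/
abbrev Q4 : Subgroup (H × Sug (n + 1) F q) := C.D.GP C.k ⊔ C.D.GP (C.k + 1)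

theorem Q4_coset {x y : H × Sug (n + 1) F q} (hx : x ∈ C.Q4) (hy : y ∈ C.Q4)
    (h : app x.2 C.e = app y.2 C.e) : (QuotientGroup.mk x : C.Q) = QuotientGroup.mk y := by
  refine QuotientGroup.eq.mpr ?_
  have hm : x⁻¹ * y ∈ C.Q4 := mul_mem (inv_mem hx) hy
  set T : Finset (Fin (n + 1)) := tripT n C.k ∪ tripT n (C.k + 1) with hTdef
  have hle : C.Q4 ≤ (fixT T).comap (MonoidHom.snd H (Sug (n + 1) F q)) := by
    refine sup_le (fun z hz => ?_) (fun z hz => ?_)
    · exact fixT_mono Finset.subset_union_left (C.D.GP_mem _ C.lt1 z hz)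
    · exact fixT_mono Finset.subset_union_right (C.D.GP_mem _ C.lt2 z hz)
  have he : app (x⁻¹ * y).2 C.e = C.e := by
    rw [Prod.snd_mul, Prod.snd_inv, app_mul, ← h, app_inv_app]
  have hp : (x⁻¹ * y).2 ∈ fixT (tripT n (C.k + 1)) := by
    intro l hl
    by_cases hlk : (l : ℕ) = C.k
    · have e1 : dd l = C.e := by
        rw [Ctx.e, bas_eq C.lt0.le]; congr 1; exact Fin.ext hlk
      rw [e1]; exact he
    · exact hle hm l (by simp [hTdef, tripT] at hl ⊢; omega)
  obtain ⟨t, ht, hte⟩ := C.D.GP_lift _ C.lt2 _ hp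
  rw [(C.D.quad C.k C.lt2).eq hm (Subgroup.mem_sup_right ht) hte.symm]
  exact C.D.GP_le_Lk le_rfl C.lt2 ht

theorem P01_coset {x y : H × Sug (n + 1) F q} (hx : x ∈ C.P01) (hy : y ∈ C.P01)
    (h : app x.2 C.e = app y.2 C.e) : (QuotientGroup.mk x : C.Q) = QuotientGroup.mk y :=
  C.Q4_coset (Subgroup.mem_sup_left hx) (Subgroup.mem_sup_left hy) h

theorem mem_L2_of_fix {h : H × Sug (n + 1) F q} (hh : h ∈ C.L1) (he : app h.2 C.e1 = C.e1) :
    h ∈ C.D.Lk (C.k + 2) := by
  have hm : h.2 ∈ fixT (tailT n (C.k + 2)) := by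
    intro l hl
    rw [mem_tailT, not_le] at hl
    by_cases hlk : (l : ℕ) = C.k + 1
    · have e1 : dd l = C.e1 := by
        rw [Ctx.e1, bas_eq C.lt1.le]; congr 1; exact Fin.ext hlk
      rw [e1]; exact he
    · exact mem_fixT.mp (C.D.snd_mem hh) l (by rw [mem_tailT]; omega)
  obtain ⟨y, hy, hye⟩ := C.good2.surj _ hm
  rw [C.good1.func.eq hh (C.D.Lk_antitone (Nat.le_succ _) hy) hye.symm]
  exact hy

theorem pair_decomp {v : Fin (n + 1) → F} (hv : v ∈ supp (pairT n C.k)) :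
    v = herm q v C.e • C.e + herm q v C.e1 • C.e1 := by
  rw [Ctx.e, Ctx.e1, herm_bas C.D.hF C.lt0.le, herm_bas C.D.hF C.lt1.le, bas_eq C.lt0.le,
    bas_eq C.lt1.le]
  funext l
  by_cases h0 : (l : ℕ) = C.k
  · have hl : l = ⟨C.k, Nat.lt_succ_of_le C.lt0.le⟩ := Fin.ext h0
    subst hl
    simp [dd]
  by_cases h1 : (l : ℕ) = C.k + 1
  · have hl : l = ⟨C.k + 1, Nat.lt_succ_of_le C.lt1.le⟩ := Fin.ext h1
    subst hl
    simp [dd]
  rw [hv l (by rw [mem_pairT]; omega)]
  simp [dd, Pi.single_apply, Fin.ext_iff, h0, h1]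

theorem pair_perp {v : Fin (n + 1) → F} (hv : v ∈ supp (pairT n C.k))
    (h : herm q v C.e = 0) : v ∈ supp (pairT n (C.k + 1)) := by
  rw [C.pair_decomp hv, h, zero_smul, zero_add]
  exact (supp _).smul_mem _ (bas_mem_pair C.lt1.le (Or.inl rfl))

/-- An element moving the base vector to the next one. -/
def wh : H × Sug (n + 1) F q :=
  Classical.choose (C.D.exists_plane_lift C.lt0 (bas_mem_pair C.lt1.le (Or.inr rfl))
    (bas_unit C.D.hF C.lt1.le))

theorem wh_mem : C.wh ∈ C.D.GU C.k :=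
  (Classical.choose_spec (C.D.exists_plane_lift C.lt0 (bas_mem_pair C.lt1.le (Or.inr rfl))
    (bas_unit C.D.hF C.lt1.le))).1

theorem wh_e : app C.wh.2 C.e = C.e1 :=
  (Classical.choose_spec (C.D.exists_plane_lift C.lt0 (bas_mem_pair C.lt1.le (Or.inr rfl))
    (bas_unit C.D.hF C.lt1.le))).2

theorem wh_mem_P01 : C.wh ∈ C.P01 := C.D.le0 _ C.lt1 C.wh_mem

theorem wh_mem_L0 : C.wh ∈ C.L0 := C.GU0_le C.wh_mem

theorem mk_mul_L1 (x : H × Sug (n + 1) F q) {y : H × Sug (n + 1) F q} (hy : y ∈ C.L1) :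
    (QuotientGroup.mk (x * y) : C.Q) = QuotientGroup.mk x :=
  QuotientGroup.mk_mul_of_mem x hy

/-- The vector of a coset. -/
def prj : C.Q → (Fin (n + 1) → F) :=
  Quotient.lift (fun x : H × Sug (n + 1) F q => app x.2 C.e) fun a b h => by
    have hab : a⁻¹ * b ∈ C.L1 := QuotientGroup.leftRel_apply.mp h
    have hf := C.L1_fix hab
    rw [Prod.snd_mul, Prod.snd_inv, app_mul] at hf
    have := congrArg (app a.2) hf
    rw [app_app_inv] at this
    exact this.symm

theorem prj_mk (x : H × Sug (n + 1) F q) : C.prj (QuotientGroup.mk x) = app x.2 C.e := rfl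

theorem prj_smul (x : H × Sug (n + 1) F q) (c : C.Q) : C.prj (x • c) = app x.2 (C.prj c) := by
  induction c using QuotientGroup.induction_on with
  | _ y => rw [MulAction.Quotient.smul_coe, smul_eq_mul, prj_mk, prj_mk, Prod.snd_mul, app_mul]

/-- Adjacency of cosets. -/
def Adj (c c' : C.Q) : Prop :=
  ∃ x ∈ C.L0, c = QuotientGroup.mk x ∧ c' = QuotientGroup.mk (x * C.wh)

theorem Adj.smul {C : Ctx F q n H} {c c' : C.Q} (h : C.Adj c c') {x : H × Sug (n + 1) F q}
    (hx : x ∈ C.L0) : C.Adj (x • c) (x • c') := by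
  obtain ⟨y, hy, rfl, rfl⟩ := h
  exact ⟨x * y, mul_mem hx hy, rfl, by
    rw [MulAction.Quotient.smul_coe, smul_eq_mul, mul_assoc]⟩

theorem adj_P01 {x y : H × Sug (n + 1) F q} (hx : x ∈ C.P01) (hy : y ∈ C.P01)
    (h : app y.2 C.e = app x.2 C.e1) : C.Adj (QuotientGroup.mk x) (QuotientGroup.mk y) :=
  ⟨x, C.P01_le hx, rfl, C.P01_coset hy (mul_mem hx C.wh_mem_P01)
    (by rw [h, Prod.snd_mul, app_mul, C.wh_e])⟩

theorem adj_unique {c c1 c2 : C.Q} (h1 : C.Adj c c1) (h2 : C.Adj c c2)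
    (hp : C.prj c1 = C.prj c2) : c1 = c2 := by
  obtain ⟨x, hx, rfl, rfl⟩ := h1
  obtain ⟨y, hy, hxy, rfl⟩ := h2
  have hh : x⁻¹ * y ∈ C.L1 := QuotientGroup.eq.mp hxy
  have he : app (x⁻¹ * y).2 C.e1 = C.e1 := by
    rw [prj_mk, prj_mk, Prod.snd_mul, Prod.snd_mul, app_mul, app_mul, C.wh_e] at hp
    rw [Prod.snd_mul, Prod.snd_inv, app_mul, ← hp, app_inv_app]
  have hc := C.L2_comm (C.mem_L2_of_fix hh he) C.wh_mem
  rw [show y * C.wh = x * ((x⁻¹ * y) * C.wh) by group, ← hc.eq, ← mul_assoc,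
    C.mk_mul_L1 _ hh]

theorem adj_symm {c c' : C.Q} (h : C.Adj c c') : C.Adj c' c := by
  obtain ⟨x, hx, rfl, rfl⟩ := h
  have hz : app C.wh.2⁻¹ C.e ∈ supp (pairT n (C.k + 1)) := by
    refine C.pair_perp (app_mem_supp C.D.hF (inv_mem (C.D.GU_mem _ C.lt0 _ C.wh_mem))
      (bas_mem_pair C.lt0.le (Or.inl rfl))) ?_
    rw [← app_herm C.wh.2, app_app_inv, C.wh_e]
    exact (herm_bas_tail C.D.hF C.lt0 (bas_mem_tail C.lt1.le le_rfl)).2
  obtain ⟨t, ht, hte⟩ := C.D.exists_plane_lift C.lt1 hz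
    (by rw [app_herm]; exact bas_unit C.D.hF C.lt0.le)
  have h1 : C.Adj (QuotientGroup.mk (C.wh * t)) (QuotientGroup.mk 1) :=
    C.adj_P01 (mul_mem C.wh_mem_P01 (C.D.le1 _ C.lt1 ht)) (one_mem _)
      (by rw [Prod.snd_mul, app_mul, show app t.2 C.e1 = _ from hte, app_app_inv]; rfl)
  have h2 := h1.smul hx
  rwa [MulAction.Quotient.smul_coe, MulAction.Quotient.smul_coe, smul_eq_mul, smul_eq_mul,
    mul_one, ← mul_assoc, C.mk_mul_L1 _ (C.GU1_le ht)] at h2

theorem adj_exists {c c0 : C.Q} (h : C.Adj c c0) {u : Fin (n + 1) → F} (hu : C.Unit' u)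
    (hperp : herm q u (C.prj c) = 0) : ∃ c', C.Adj c c' ∧ C.prj c' = u := by
  obtain ⟨x, hx, rfl, -⟩ := h
  rw [prj_mk] at hperp
  have hW : app x.2⁻¹ u ∈ supp (tailT n (C.k + 1)) := by
    have h1 := offPart_mem C.lt0.le (app_mem_supp C.D.hF (inv_mem (C.D.snd_mem hx)) hu.1)
    have h2 : herm q (app x.2⁻¹ u) (bas F n C.k) = 0 := by
      rw [← app_herm x.2, app_app_inv]; exact hperp
    rwa [offPart_eq' C.D.hF C.lt0.le, h2, zero_smul, sub_zero] at h1
  obtain ⟨g, hg, hge⟩ := C.D.exists_tail_lift C.lt1 C.good1 hW (by rw [app_herm]; exact hu.2)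
  refine ⟨QuotientGroup.mk (x * g * C.wh),
    ⟨x * g, mul_mem hx (C.L1_le hg), (C.mk_mul_L1 x hg).symm, rfl⟩, ?_⟩
  rw [prj_mk, Prod.snd_mul, Prod.snd_mul, app_mul, app_mul, C.wh_e,
    show app g.2 C.e1 = _ from hge, app_app_inv]

theorem adj_tri {c c1 c2 : C.Q} (h1 : C.Adj c c1) (h2 : C.Adj c c2)
    (hp : herm q (C.prj c2) (C.prj c1) = 0) : C.Adj c1 c2 := by
  obtain ⟨x, hx, rfl, rfl⟩ := h1
  obtain ⟨y, hy, hxy, rfl⟩ := h2
  set h := x⁻¹ * y with hh'
  have hh : h ∈ C.L1 := QuotientGroup.eq.mp hxy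
  set u := app h.2 C.e1 with hu
  have hu1 : herm q u u = 1 := by rw [hu, app_herm]; exact bas_unit C.D.hF C.lt1.le
  have huW : u ∈ supp (tailT n (C.k + 1)) :=
    app_mem_supp C.D.hF (C.D.snd_mem hh) (bas_mem_tail C.lt1.le le_rfl)
  have hue : herm q u C.e1 = 0 := by
    rw [prj_mk, prj_mk, Prod.snd_mul, Prod.snd_mul, app_mul, app_mul, C.wh_e] at hp
    rw [hu, hh', Prod.snd_mul, Prod.snd_inv, app_mul, ← app_herm x.2, app_app_inv]
    exact hp
  have huW2 : u ∈ supp (tailT n (C.k + 1 + 1)) := by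
    have h3 := offPart_mem C.lt1.le huW
    rwa [offPart_eq' C.D.hF C.lt1.le, show herm q u (bas F n (C.k + 1)) = 0 from hue, zero_smul,
      sub_zero] at h3
  obtain ⟨g, hg, hge⟩ := C.D.exists_tail_lift C.lt2 C.good2 huW2 hu1
  obtain ⟨t, ht, hte⟩ := C.D.exists_plane_lift C.lt1
    (bas_mem_pair C.le2 (Or.inr rfl)) (bas_unit C.D.hF C.le2)
  have hg1 : g ∈ C.L1 := C.D.Lk_antitone (Nat.le_succ _) hg
  -- the second coset in standard form
  have e2' : (QuotientGroup.mk (h * C.wh) : C.Q) = QuotientGroup.mk (g * t * C.wh) := by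
    refine C.adj_unique (c := QuotientGroup.mk 1)
      ⟨h, C.L1_le hh, by simpa using (C.mk_mul_L1 1 hh).symm, rfl⟩
      ⟨g * t, C.L1_le (mul_mem hg1 (C.GU1_le ht)),
        by simpa using (C.mk_mul_L1 1 (mul_mem hg1 (C.GU1_le ht))).symm, rfl⟩ ?_
    simp only [prj_mk, Prod.snd_mul, app_mul, C.wh_e]
    rw [show app t.2 C.e1 = C.e2 from hte, show app g.2 C.e2 = u from hge, hu, hh', Prod.snd_mul,
      app_mul]
  have base : C.Adj (QuotientGroup.mk C.wh) (QuotientGroup.mk (t * C.wh)) := by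
    have h3 := C.adj_P01 (x := C.wh * t) (y := t * C.wh)
      (mul_mem C.wh_mem_P01 (C.D.le1 _ C.lt1 ht))
      (mul_mem (C.D.le1 _ C.lt1 ht) C.wh_mem_P01)
      (by rw [Prod.snd_mul, Prod.snd_mul, app_mul, app_mul, C.wh_e,
        show app t.2 C.e1 = C.e2 from hte, C.GU0_fix_e2 C.wh_mem])
    rwa [C.mk_mul_L1 _ (C.GU1_le ht)] at h3
  have h4 := base.smul (mul_mem hx (C.L1_le hg1))
  rw [MulAction.Quotient.smul_coe, MulAction.Quotient.smul_coe, smul_eq_mul, smul_eq_mul] at h4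
  have e1' : (QuotientGroup.mk (x * g * C.wh) : C.Q) = QuotientGroup.mk (x * C.wh) := by
    rw [mul_assoc, ← (C.L2_comm hg C.wh_mem).eq, ← mul_assoc, C.mk_mul_L1 _ hg1]
  have e2'' : (QuotientGroup.mk (y * C.wh) : C.Q) = QuotientGroup.mk (x * g * (t * C.wh)) := by
    have := congrArg (fun c : C.Q => x • c) e2'
    simp only [MulAction.Quotient.smul_coe, smul_eq_mul] at this
    rw [show y * C.wh = x * (h * C.wh) by rw [hh']; group, this]
    simp [mul_assoc]
  rw [e2'', ← e1']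
  exact h4

theorem conj_mem {s : H × Sug (n + 1) F q} (hs : s ∈ C.D.GU C.k)
    (hsd : app s.2 C.e = herm q (app s.2 C.e) C.e • C.e) {h : H × Sug (n + 1) F q}
    (hh : h ∈ C.L1) : s⁻¹ * h * s ∈ C.L1 := by
  have hP : ∀ y ∈ C.D.GP (C.k + 1), s⁻¹ * y * s ∈ C.L1 := fun y hy => by
    have hs' : s ∈ C.Q4 := Subgroup.mem_sup_left (C.D.le0 _ C.lt1 hs)
    have hc := C.Q4_coset (x := s) (y := y * s) hs' (mul_mem (Subgroup.mem_sup_right hy) hs')
      (by rw [Prod.snd_mul, app_mul, hsd, app_smul, C.L1_fix (C.D.GP_le_Lk le_rfl C.lt2 hy)])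
    have := QuotientGroup.eq.mp hc
    rwa [← mul_assoc] at this
  induction hh using Subgroup.closure_induction with
  | mem y hy =>
    rcases hy with ⟨i, hi, hin, hy⟩ | ⟨i, hi, hin, hy⟩
    · by_cases h1 : i = C.k + 1
      · subst h1
        exact hP y (C.D.le0 _ C.lt2 hy)
      · have hc := C.D.farUU C.k i (by omega) hin s hs y hy
        rw [mul_assoc, ← hc.eq, inv_mul_cancel_left]
        exact C.D.GU_le_Lk hi hin hy
    · by_cases h1 : i = C.k + 1
      · subst h1
        exact hP y hy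
      · have hc := C.D.farUP C.k i (by omega) hin s hs y hy
        rw [mul_assoc, ← hc.eq, inv_mul_cancel_left]
        exact C.D.GP_le_Lk hi hin hy
  | one => simp
  | mul a b _ _ ha hb =>
    rw [show s⁻¹ * (a * b) * s = (s⁻¹ * a * s) * (s⁻¹ * b * s) by group]
    exact mul_mem ha hb
  | inv a _ ha =>
    rw [show s⁻¹ * a⁻¹ * s = (s⁻¹ * a * s)⁻¹ by group]
    exact inv_mem ha

theorem rep_wd {g g' s s' : H × Sug (n + 1) F q} (hg : g ∈ C.L1) (hg' : g' ∈ C.L1)
    (hs : s ∈ C.D.GU C.k) (hs' : s' ∈ C.D.GU C.k)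
    (h : app (g * s).2 C.e = app (g' * s').2 C.e) :
    (QuotientGroup.mk (g * s) : C.Q) = QuotientGroup.mk (g' * s') := by
  set k' := g⁻¹ * g' with hk'
  have hk1 : k' ∈ C.L1 := mul_mem (inv_mem hg) hg'
  have hmov : app k'.2 (app s'.2 C.e) = app s.2 C.e := by
    rw [Prod.snd_mul, Prod.snd_mul, app_mul, app_mul] at h
    rw [hk', Prod.snd_mul, Prod.snd_inv, app_mul, ← h, app_inv_app]
  have hm : ∀ {z : H × Sug (n + 1) F q}, z ∈ C.D.GU C.k →
      app z.2 C.e ∈ supp (pairT n C.k) := fun hz =>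
    app_mem_supp C.D.hF (C.D.GU_mem _ C.lt0 _ hz) (bas_mem_pair C.lt0.le (Or.inl rfl))
  have d1 := C.pair_decomp (hm hs)
  have d2 := C.pair_decomp (hm hs')
  set a := herm q (app s.2 C.e) C.e with ha
  set b := herm q (app s.2 C.e) C.e1 with hb
  set b' := herm q (app s'.2 C.e) C.e1 with hb'
  have haa : herm q (app s'.2 C.e) C.e = a := by
    rw [ha, ← hmov]
    conv_rhs => arg 3; rw [← C.L1_fix hk1]
    rw [app_herm]
  rw [haa] at d2
  rw [d1, d2, app_add, app_smul, app_smul, C.L1_fix hk1, add_right_inj] at hmov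
  by_cases hb0 : b' = 0
  · have hb00 : b = 0 := by
      rw [hb0, zero_smul, eq_comm, smul_eq_zero] at hmov
      exact hmov.resolve_right (unit_ne_zero C.D.hF (bas_unit C.D.hF C.lt1.le))
    rw [hb0, zero_smul, add_zero] at d2
    rw [hb00, zero_smul, add_zero] at d1
    have hsd : app s.2 C.e = herm q (app s.2 C.e) C.e • C.e := d1
    have hss : (QuotientGroup.mk s' : C.Q) = QuotientGroup.mk s :=
      C.P01_coset (C.D.le0 _ C.lt1 hs') (C.D.le0 _ C.lt1 hs) (d2.trans d1.symm)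
    have := congrArg (fun c : C.Q => g' • c) hss
    simp only [MulAction.Quotient.smul_coe, smul_eq_mul] at this
    rw [this, show g' * s = g * s * (s⁻¹ * k' * s) by rw [hk']; group,
      C.mk_mul_L1 _ (C.conj_mem hs hsd hk1)]
  · have hlam : app k'.2 C.e1 = (b / b') • C.e1 := by
      rw [div_eq_inv_mul, mul_smul, ← hmov, smul_smul, inv_mul_cancel₀ hb0, one_smul]
    have hn : herm q ((b / b') • C.e1) ((b / b') • C.e1) = 1 := by
      rw [← hlam, app_herm]; exact bas_unit C.D.hF C.lt1.le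
    obtain ⟨t, ht, hte⟩ := C.D.exists_plane_lift C.lt1
      ((supp _).smul_mem (b / b') (bas_mem_pair C.lt1.le (Or.inl rfl))) hn
    have hte' : app t.2 C.e1 = (b / b') • C.e1 := hte
    set h' := t⁻¹ * k' with hh'
    have hh1 : h' ∈ C.L1 := mul_mem (inv_mem (C.GU1_le ht)) hk1
    have hhe : app h'.2 C.e1 = C.e1 := by
      rw [hh', Prod.snd_mul, app_mul, hlam, ← hte', Prod.snd_inv, app_inv_app]
    have hc := C.L2_comm (C.mem_L2_of_fix hh1 hhe) hs'
    have hts : (QuotientGroup.mk (t * s') : C.Q) = QuotientGroup.mk s := by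
      refine C.P01_coset (mul_mem (C.D.le1 _ C.lt1 ht) (C.D.le0 _ C.lt1 hs'))
        (C.D.le0 _ C.lt1 hs) ?_
      rw [Prod.snd_mul, app_mul, d2, d1, app_add, app_smul, app_smul, C.GU1_fix ht, hte',
        smul_smul, mul_div_cancel₀ _ hb0]
    have := congrArg (fun c : C.Q => g • c) hts
    simp only [MulAction.Quotient.smul_coe, smul_eq_mul] at this
    rw [← this, show g' * s' = g * t * (h' * s') by rw [hh', hk']; group, ← hc.eq,
      show g * t * (s' * h') = g * (t * s') * h' by group, C.mk_mul_L1 _ hh1]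

/-- The coset attached to a generic unit. -/
def gA (v : Fin (n + 1) → F) : C.Q :=
  if h : C.Unit' v ∧ PData.IsA n C.k q v then
    QuotientGroup.mk (Classical.choose (C.D.exists_rep C.lt1 C.good1 h.1.1 h.1.2 h.2) *
      Classical.choose (Classical.choose_spec
        (C.D.exists_rep C.lt1 C.good1 h.1.1 h.1.2 h.2)).2)
  else QuotientGroup.mk 1

theorem gA_eq {v : Fin (n + 1) → F} (hv : C.Unit' v) (hA : PData.IsA n C.k q v)
    {g s : H × Sug (n + 1) F q} (hg : g ∈ C.L1) (hs : s ∈ C.D.GU C.k)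
    (he : app (g * s).2 C.e = v) : C.gA v = QuotientGroup.mk (g * s) := by
  rw [gA, dif_pos ⟨hv, hA⟩]
  have h1 := Classical.choose_spec (C.D.exists_rep C.lt1 C.good1 hv.1 hv.2 hA)
  have h2 := Classical.choose_spec h1.2
  exact C.rep_wd h1.1 hg h2.1 hs (h2.2.trans he.symm)

theorem gA_prj {v : Fin (n + 1) → F} (hv : C.Unit' v) (hA : PData.IsA n C.k q v) :
    C.prj (C.gA v) = v := by
  obtain ⟨g, hg, s, hs, he⟩ := C.D.exists_rep C.lt1 C.good1 hv.1 hv.2 hA
  rw [C.gA_eq hv hA hg hs he, prj_mk]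
  exact he

theorem off_unitW {a : Fin (n + 1) → F} (ha : C.UnitW a) : offPart n C.k a = a := by
  rw [offPart_eq' C.D.hF C.lt0.le, (herm_bas_tail C.D.hF C.lt0 ha.1).1, zero_smul, sub_zero]

theorem unitW_isA {a : Fin (n + 1) → F} (ha : C.UnitW a) : PData.IsA n C.k q a :=
  Or.inr (by rw [C.off_unitW ha, ha.2]; exact one_ne_zero)

theorem edge_W {v a : Fin (n + 1) → F} (hv : C.Unit' v) (hA : PData.IsA n C.k q v)
    (ha : C.UnitW a) (h : herm q v a = 0) : C.Adj (C.gA v) (C.gA a) := by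
  obtain ⟨g, hg, s, hs, he⟩ := C.D.exists_rep C.lt1 C.good1 hv.1 hv.2 hA
  set a' := app g.2⁻¹ a with ha'
  have ha'W : a' ∈ supp (tailT n (C.k + 1)) :=
    app_mem_supp C.D.hF (inv_mem (C.D.snd_mem hg)) ha.1
  have ha'1 : herm q a' a' = 1 := by rw [ha', app_herm]; exact ha.2
  have hse : app s.2 C.e ∈ supp (pairT n C.k) :=
    app_mem_supp C.D.hF (C.D.GU_mem _ C.lt0 _ hs) (bas_mem_pair C.lt0.le (Or.inl rfl))
  have d1 := C.pair_decomp hse
  have hperp : herm q (app s.2 C.e) a' = 0 := by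
    rw [ha', ← app_herm g.2, app_app_inv, ← app_mul, ← Prod.snd_mul, he]
    exact h
  by_cases hb : herm q (app s.2 C.e) C.e1 = 0
  · rw [hb, zero_smul, add_zero] at d1
    obtain ⟨g1, hg1, hg1e⟩ := C.D.exists_tail_lift C.lt1 C.good1 ha'W ha'1
    have ea : C.gA a = QuotientGroup.mk (g * g1 * C.wh) :=
      C.gA_eq ha.unit (C.unitW_isA ha) (mul_mem hg hg1) C.wh_mem (by
        rw [Prod.snd_mul, Prod.snd_mul, app_mul, app_mul, C.wh_e,
          show app g1.2 C.e1 = a' from hg1e, ha', app_app_inv])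
    have ev : C.gA v = QuotientGroup.mk (g * g1 * s) :=
      C.gA_eq hv hA (mul_mem hg hg1) hs (by
        have hfix1 : app g1.2 (app s.2 C.e) = app s.2 C.e := by
          rw [d1, app_smul, C.L1_fix hg1]
        rw [Prod.snd_mul, Prod.snd_mul, app_mul, app_mul, hfix1, ← app_mul, ← Prod.snd_mul, he])
    have hz : app s.2⁻¹ C.e1 ∈ supp (pairT n (C.k + 1)) := by
      refine C.pair_perp (app_mem_supp C.D.hF (inv_mem (C.D.GU_mem _ C.lt0 _ hs))
        (bas_mem_pair C.lt1.le (Or.inr rfl))) ?_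
      rw [← app_herm s.2, app_app_inv]
      exact herm_comm_zero C.D.hF hb
    obtain ⟨t, ht, hte⟩ := C.D.exists_plane_lift C.lt1 hz
      (by rw [app_herm]; exact bas_unit C.D.hF C.lt1.le)
    have base : C.Adj (QuotientGroup.mk s) (QuotientGroup.mk C.wh) := by
      have h3 := C.adj_P01 (x := s * t) (y := C.wh)
        (mul_mem (C.D.le0 _ C.lt1 hs) (C.D.le1 _ C.lt1 ht)) C.wh_mem_P01
        (by rw [Prod.snd_mul, app_mul, show app t.2 C.e1 = _ from hte, app_app_inv, C.wh_e])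
      rwa [C.mk_mul_L1 _ (C.GU1_le ht)] at h3
    have h4 := base.smul (C.L1_le (mul_mem hg hg1))
    rw [MulAction.Quotient.smul_coe, MulAction.Quotient.smul_coe, smul_eq_mul, smul_eq_mul] at h4
    rwa [ea, ev]
  · have hae : herm q a' C.e1 = 0 := by
      apply herm_comm_zero C.D.hF
      have h1 : herm q C.e a' = 0 := (herm_bas_tail C.D.hF C.lt0 ha'W).2
      rw [d1, herm_add_left, herm_smul_left, herm_smul_left, h1, mul_zero, zero_add] at hperp
      exact (mul_eq_zero.mp hperp).resolve_left hb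
    have ha'2 : a' ∈ supp (tailT n (C.k + 1 + 1)) := by
      have h3 := offPart_mem C.lt1.le ha'W
      rwa [offPart_eq' C.D.hF C.lt1.le, show herm q a' (bas F n (C.k + 1)) = 0 from hae, zero_smul,
        sub_zero] at h3
    obtain ⟨g2, hg2, hg2e⟩ := C.D.exists_tail_lift C.lt2 C.good2 ha'2 ha'1
    obtain ⟨t, ht, hte⟩ := C.D.exists_plane_lift C.lt1
      (bas_mem_pair C.le2 (Or.inr rfl)) (bas_unit C.D.hF C.le2)
    have hg21 : g2 ∈ C.L1 := C.D.Lk_antitone (Nat.le_succ _) hg2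
    have ea : C.gA a = QuotientGroup.mk (g * g2 * t * C.wh) :=
      C.gA_eq ha.unit (C.unitW_isA ha) (mul_mem (mul_mem hg hg21) (C.GU1_le ht)) C.wh_mem (by
        rw [Prod.snd_mul, Prod.snd_mul, Prod.snd_mul, app_mul, app_mul, app_mul, C.wh_e,
          show app t.2 C.e1 = C.e2 from hte, show app g2.2 C.e2 = a' from hg2e, ha', app_app_inv])
    have ev : C.gA v = QuotientGroup.mk (g * g2 * s) :=
      C.gA_eq hv hA (mul_mem hg hg21) hs (by
        rw [mul_assoc, ← (C.L2_comm hg2 hs).eq, ← mul_assoc, Prod.snd_mul, app_mul,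
          C.L1_fix hg21, he])
    have base : C.Adj (QuotientGroup.mk s) (QuotientGroup.mk (t * C.wh)) := by
      have h3 := C.adj_P01 (x := s * t) (y := t * C.wh)
        (mul_mem (C.D.le0 _ C.lt1 hs) (C.D.le1 _ C.lt1 ht))
        (mul_mem (C.D.le1 _ C.lt1 ht) C.wh_mem_P01)
        (by rw [Prod.snd_mul, Prod.snd_mul, app_mul, app_mul, C.wh_e,
          show app t.2 C.e1 = C.e2 from hte, C.GU0_fix_e2 hs])
      rwa [C.mk_mul_L1 _ (C.GU1_le ht)] at h3
    have h4 := base.smul (C.L1_le (mul_mem hg hg21))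
    rw [MulAction.Quotient.smul_coe, MulAction.Quotient.smul_coe, smul_eq_mul, smul_eq_mul] at h4
    rw [ea, ev, mul_assoc (g * g2) t C.wh]
    exact h4

/-- A unit of the smaller space orthogonal to a given unit. -/
def Good' (v a : Fin (n + 1) → F) : Prop := C.UnitW a ∧ herm q a v = 0

theorem herm_W {v a : Fin (n + 1) → F} (hv : v ∈ supp (tailT n C.k))
    (ha : a ∈ supp (tailT n (C.k + 1))) : herm q a v = herm q a (offPart n C.k v) := by
  conv_lhs => rw [herm_decomp C.D.hF C.lt0 (supp_mono (tailT_antitone C.k.le_succ) ha) hv]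
  rw [(herm_bas_tail C.D.hF C.lt0 ha).1, zero_mul, zero_add, offPart_eq' C.D.hF C.lt0.le a,
    (herm_bas_tail C.D.hF C.lt0 ha).1, zero_smul, sub_zero]

theorem unit_e : C.Unit' C.e := ⟨bas_mem_tail C.lt0.le le_rfl, bas_unit C.D.hF C.lt0.le⟩

theorem e_isA : PData.IsA n C.k q C.e :=
  Or.inl (by
    rw [offPart_eq' C.D.hF C.lt0.le, bas_unit C.D.hF C.lt0.le, one_smul, sub_self])

theorem unit_app {x : H × Sug (n + 1) F q} (hx : x ∈ C.L0) {v : Fin (n + 1) → F}
    (hv : C.Unit' v) : C.Unit' (app x.2 v) :=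
  ⟨app_mem_supp C.D.hF (C.D.snd_mem hx) hv.1, by rw [app_herm]; exact hv.2⟩

theorem exists_good {v : Fin (n + 1) → F} (hv : C.Unit' v) : ∃ a, C.Good' v a := by
  obtain ⟨y, hy, hy1, -, hyx⟩ := exists_unit_perp_two C.D.hF (isON_empty C.D.hF)
    (T := tailT n (C.k + 1)) (fun p hp => absurd hp (Finset.notMem_empty p))
    (offPart_mem C.lt0.le hv.1)
    (by rw [Finset.card_empty, card_tailT _ C.lt1.le]; have := C.hk; omega)
  exact ⟨y, ⟨hy, hy1⟩, (C.herm_W hv.1 hy).trans hyx⟩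

theorem L1_gA {g : H × Sug (n + 1) F q} (hg : g ∈ C.L1) {b : Fin (n + 1) → F} (hb : C.UnitW b) :
    g • C.gA b = C.gA (app g.2 b) := by
  obtain ⟨g', hg', s, hs, he⟩ := C.D.exists_rep C.lt1 C.good1 hb.unit.1 hb.2 (C.unitW_isA hb)
  have hW : C.UnitW (app g.2 b) :=
    ⟨app_mem_supp C.D.hF (C.D.snd_mem hg) hb.1, by rw [app_herm]; exact hb.2⟩
  rw [C.gA_eq hb.unit (C.unitW_isA hb) hg' hs he, MulAction.Quotient.smul_coe, smul_eq_mul,
    C.gA_eq hW.unit (C.unitW_isA hW) (mul_mem hg hg') hs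
      (by rw [mul_assoc, Prod.snd_mul, app_mul, show app (g' * s).2 C.e = b from he]), mul_assoc]

theorem e3_W : C.UnitW C.e3 := ⟨bas_mem_tail C.le3 (by omega), bas_unit C.D.hF C.le3⟩

theorem adj_e3 {y : H × Sug (n + 1) F q} (hy : y ∈ C.D.GP C.k) :
    C.Adj (QuotientGroup.mk y) (C.gA C.e3) := by
  have hm : bas F n (C.k + 3) ∈ supp (tripT n (C.k + 1)) := by
    rw [bas_eq C.le3]
    exact dd_mem_supp (by simp [tripT])
  obtain ⟨h, hh, hhe⟩ := C.D.exists_trip_lift C.lt2 (l := C.k + 1) le_rfl (by omega) hm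
    (bas_unit C.D.hF C.le3)
  have hhL : h ∈ C.L1 := C.D.GP_le_Lk le_rfl C.lt2 hh
  have hye : app y.2 C.e3 = C.e3 :=
    fix_bas (C.D.GP_mem _ C.lt1 y hy) C.le3 (by simp [tripT])
  have e1 : app (h * C.wh).2 C.e = C.e3 := by
    rw [Prod.snd_mul, app_mul, C.wh_e]; exact hhe
  rw [C.gA_eq C.e3_W.unit (C.unitW_isA C.e3_W) hhL C.wh_mem e1]
  refine ⟨y * h, mul_mem (C.D.GP_le_Lk le_rfl C.lt1 hy) (C.L1_le hhL), (C.mk_mul_L1 y hhL).symm, ?_⟩
  have hw : C.wh ∈ C.Q4 := Subgroup.mem_sup_left C.wh_mem_P01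
  refine C.Q4_coset (mul_mem (Subgroup.mem_sup_right hh) hw)
    (mul_mem (mul_mem (Subgroup.mem_sup_left hy) (Subgroup.mem_sup_right hh)) hw) ?_
  rw [mul_assoc, Prod.snd_mul y, app_mul, e1, hye]

theorem adj_far {y : H × Sug (n + 1) F q} (hy : y ∈ C.D.GP C.k) {a : Fin (n + 1) → F}
    (ha : a ∈ supp (tailT n (C.k + 3))) (ha1 : herm q a a = 1) :
    C.Adj (QuotientGroup.mk y) (C.gA a) := by
  obtain ⟨h, hh, hhe⟩ := C.D.exists_tail_lift C.lt3 C.good3 ha ha1
  have hL1 : h ∈ C.L1 := C.D.Lk_antitone (by omega) hh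
  have h1 := (C.adj_e3 hy).smul (C.L1_le hL1)
  rwa [MulAction.Quotient.smul_coe, smul_eq_mul, ← (C.L3_comm hh hy).eq, C.mk_mul_L1 _ hL1,
    C.L1_gA hL1 C.e3_W, show app h.2 C.e3 = a from hhe] at h1

theorem adj_trip {y : H × Sug (n + 1) F q} (hy : y ∈ C.D.GP C.k)
    (hA : ¬ PData.IsA n C.k q (app y.2 C.e)) {b : Fin (n + 1) → F} (hb : C.UnitW b)
    (h : herm q b (app y.2 C.e) = 0) : C.Adj (QuotientGroup.mk y) (C.gA b) := by
  have hF := C.D.hF
  set v1 := app y.2 C.e with hv1def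
  have hv1 : v1 ∈ supp (tripT n C.k) := app_mem_supp hF (C.D.GP_mem _ C.lt1 y hy) (by
    rw [Ctx.e, bas_eq C.lt0.le]; exact dd_mem_supp (by simp [tripT]))
  rw [PData.IsA, not_or, not_not] at hA
  obtain ⟨hw0, hw⟩ := hA
  set w := offPart n C.k v1 with hwdef
  have hwW : w ∈ supp (tailT n (C.k + 1)) :=
    offPart_mem C.lt0.le (supp_mono (Data.tripT_subset_tailT le_rfl) hv1)
  have hbw : herm q b w = 0 := by
    rw [← C.herm_W (supp_mono (Data.tripT_subset_tailT le_rfl) hv1) hb.1]; exact h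
  set w2 := offPart n (C.k + 1) w with hw2def
  set b2 := offPart n (C.k + 1) b with hb2def
  have hw2m := offPart_mem C.lt1.le hwW
  have hb2m := offPart_mem C.lt1.le hb.1
  set b3 := offPart n (C.k + 2) b2 with hb3def
  have hb3m := offPart_mem C.le2 hb2m
  have hw3 : offPart n (C.k + 2) w2 = 0 := by
    funext l
    have hv := hv1 l
    simp only [hw2def, hwdef, offPart_eq C.le2, offPart_eq C.lt1.le, offPart_eq C.lt0.le,
      bas_eq C.le2, bas_eq C.lt1.le, bas_eq C.lt0.le, dd, Pi.sub_apply, Pi.smul_apply, smul_eq_mul,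
      Pi.single_apply, Fin.ext_iff, Pi.zero_apply]
    rcases Nat.lt_trichotomy (l : ℕ) (C.k + 2) with hl | hl | hl
    · by_cases h0 : (l : ℕ) = C.k
      · obtain rfl : l = ⟨C.k, Nat.lt_succ_of_le C.lt0.le⟩ := Fin.ext h0
        simp
      by_cases h1 : (l : ℕ) = C.k + 1
      · obtain rfl : l = ⟨C.k + 1, Nat.lt_succ_of_le C.lt1.le⟩ := Fin.ext h1
        simp
      · simp [h0, h1, hl.ne, hv (by simp [tripT]; omega)]
    · obtain rfl : l = ⟨C.k + 2, Nat.lt_succ_of_le C.le2⟩ := Fin.ext hl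
      simp
    · simp [show (l : ℕ) ≠ C.k by omega, show (l : ℕ) ≠ C.k + 1 by omega, hl.ne',
        hv (by simp [tripT]; omega)]
  have d1 := herm_decomp hF C.lt1 hb.1 hb.1
  have d2 := herm_decomp hF C.lt2 hb2m hb2m
  have d3 := herm_decomp hF C.lt1 hwW hwW
  have d4 := herm_decomp hF C.lt2 hw2m hw2m
  have d5 := herm_decomp hF C.lt1 hb.1 hwW
  have d6 := herm_decomp hF C.lt2 hb2m hw2m
  rw [← hb2def] at d1 d5
  rw [← hw2def] at d3 d5
  rw [hb.2] at d1
  rw [← hb3def] at d2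
  rw [hw3, herm_zero_left, add_zero] at d4
  rw [hw3, hF.herm_zero_right, add_zero] at d6
  rw [hw, d4] at d3
  rw [hbw, d6] at d5
  set β1 := herm q b (bas F n (C.k + 1)) with hβ1
  set β2 := herm q b2 (bas F n (C.k + 2)) with hβ2
  set c1 := herm q w (bas F n (C.k + 1)) with hc1def
  set c2 := herm q w2 (bas F n (C.k + 2)) with hc2def
  have hc : c1 ≠ 0 := fun e => by
    rw [e, zero_mul, zero_add] at d3
    have hz : c2 = 0 := by
      rcases mul_eq_zero.mp d3.symm with h' | h'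
      · exact h'
      · exact eq_zero_of_pow_eq_zero h'
    apply hw0
    have ew : w = c1 • bas F n (C.k + 1) + w2 := by
      rw [hw2def, offPart_eq' hF C.lt1.le, ← hc1def, add_sub_cancel]
    have ew2 : w2 = c2 • bas F n (C.k + 2) + offPart n (C.k + 2) w2 := by
      rw [offPart_eq' hF C.le2, ← hc2def, add_sub_cancel]
    rw [ew, ew2, e, hz, hw3]
    simp
  have hb3 : herm q b3 b3 = 1 := by
    have hq1 : c1 * c1 ^ q ≠ 0 := mul_ne_zero hc (pow_ne_zero _ hc)
    have e5 := congrArg (· ^ q) d5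
    simp only [zero_pow hF.q_ne_zero, hF.add_pow, mul_pow, hF.pow_pow] at e5
    have key : c1 * c1 ^ q * (β1 * β1 ^ q + β2 * β2 ^ q) = 0 := by
      linear_combination β2 ^ q * c2 * d5 - β1 * c1 ^ q * e5 - β2 * β2 ^ q * d3
    have := (mul_eq_zero.mp key).resolve_left hq1
    rw [d2] at d1
    linear_combination -d1 - this
  obtain ⟨a, ha, ha1, -, hab⟩ := exists_unit_perp_one hF (isON_empty hF) (T := tailT n (C.k + 3))
    (fun p hp => absurd hp (Finset.notMem_empty p)) hb3m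
    (Or.inr (by rw [proj, Finset.sum_empty, sub_zero, hb3]; exact one_ne_zero))
    (by rw [Finset.card_empty, card_tailT _ C.le3]; have := C.hk; omega)
  have haW : C.UnitW a := ⟨supp_mono (tailT_antitone (by omega)) ha, ha1⟩
  have hab' : herm q a b = 0 := by
    have ha2 : a ∈ supp (tailT n (C.k + 1 + 1)) := supp_mono (tailT_antitone (by omega)) ha
    rw [herm_decomp hF C.lt1 haW.1 hb.1, (herm_bas_tail hF C.lt1 ha2).1, zero_mul, zero_add,
      offPart_eq' hF C.lt1.le a, (herm_bas_tail hF C.lt1 ha2).1, zero_smul, sub_zero, ← hb2def,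
      herm_decomp hF C.lt2 ha2 hb2m, (herm_bas_tail hF C.lt2 ha).1, zero_mul, zero_add,
      offPart_eq' hF C.le2 a, (herm_bas_tail hF C.lt2 ha).1, zero_smul, sub_zero, ← hb3def]
    exact hab
  refine C.adj_tri (C.adj_symm (C.adj_far hy ha ha1))
    (C.edge_W haW.unit (C.unitW_isA haW) hb hab') ?_
  rw [prj_mk, C.gA_prj hb.unit (C.unitW_isA hb)]
  exact h

theorem exists_lift {v : Fin (n + 1) → F} (hv : C.Unit' v) (hA : ¬ PData.IsA n C.k q v) :
    ∃ c, C.prj c = v ∧ ∀ a, C.Good' v a → C.Adj (C.gA a) c := by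
  obtain ⟨g, hg, hgv⟩ := C.D.exists_trip_form C.lt2 C.good1 C.good2 hv.1 hA
  obtain ⟨y, hy, hye⟩ := C.D.exists_trip_lift C.lt1 (l := C.k) le_rfl (by omega) hgv
    (by rw [app_herm]; exact hv.2)
  have hgy : app (g * y).2 C.e = v := by rw [Prod.snd_mul, app_mul, hye, app_app_inv]
  have hfix : app g.2⁻¹ C.e = C.e := by
    have h1 := C.L1_fix (inv_mem hg)
    rwa [Prod.snd_inv] at h1
  have hoff : offPart n C.k (app g.2⁻¹ v) = app g.2⁻¹ (offPart n C.k v) := by
    have e1 : herm q (app g.2⁻¹ v) C.e = herm q v C.e := by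
      conv_lhs => arg 3; rw [← hfix]
      rw [app_herm]
    rw [offPart_eq' C.D.hF C.lt0.le, offPart_eq' C.D.hF C.lt0.le, sub_eq_add_neg, ← neg_smul,
      sub_eq_add_neg v, ← neg_smul, app_add, app_smul, show bas F n C.k = C.e from rfl, hfix, e1]
  have hyA : ¬ PData.IsA n C.k q (app y.2 C.e) := by
    rw [show app y.2 C.e = app g.2⁻¹ v from hye]
    refine fun h => hA ?_
    rcases h with h0 | h0
    · refine Or.inl ?_
      rw [hoff] at h0
      rw [← app_app_inv g.2 (offPart n C.k v), h0]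
      exact map_zero _
    · rw [hoff, app_herm] at h0
      exact Or.inr h0
  refine ⟨QuotientGroup.mk (g * y), by rw [prj_mk, hgy], fun a ha => C.adj_symm ?_⟩
  have hb : C.UnitW (app g.2⁻¹ a) :=
    ⟨app_mem_supp C.D.hF (inv_mem (C.D.snd_mem hg)) ha.1.1, by rw [app_herm]; exact ha.1.2⟩
  have h1 := (C.adj_trip hy hyA hb
    (by rw [show app y.2 C.e = app g.2⁻¹ v from hye, app_herm]; exact ha.2)).smul (C.L1_le hg)
  rwa [C.L1_gA hg hb, app_app_inv, MulAction.Quotient.smul_coe, smul_eq_mul] at h1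

/-- The coset attached to a unit. -/
def gam (v : Fin (n + 1) → F) : C.Q :=
  if hA : PData.IsA n C.k q v then C.gA v
  else if h : C.Unit' v then Classical.choose (C.exists_lift h hA) else QuotientGroup.mk 1

theorem gam_A {v : Fin (n + 1) → F} (h : PData.IsA n C.k q v) : C.gam v = C.gA v := dif_pos h

theorem gam_prj {v : Fin (n + 1) → F} (hv : C.Unit' v) : C.prj (C.gam v) = v := by
  by_cases h : PData.IsA n C.k q v
  · rw [C.gam_A h, C.gA_prj hv h]
  · rw [gam, dif_neg h, dif_pos hv]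
    exact (Classical.choose_spec (C.exists_lift hv h)).1

theorem edge_good {v a : Fin (n + 1) → F} (hv : C.Unit' v) (ha : C.Good' v a) :
    C.Adj (C.gam v) (C.gA a) := by
  by_cases h : PData.IsA n C.k q v
  · rw [C.gam_A h]; exact C.edge_W hv h ha.1 (herm_comm_zero C.D.hF ha.2)
  · rw [gam, dif_neg h, dif_pos hv]
    exact C.adj_symm ((Classical.choose_spec (C.exists_lift hv h)).2 a ha)

theorem edge_AB {u v : Fin (n + 1) → F} (hu : C.Unit' u) (hA : PData.IsA n C.k q u)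
    (hv : C.Unit' v) (hnA : ¬ PData.IsA n C.k q v) (h : herm q u v = 0) :
    C.Adj (C.gam u) (C.gam v) := by
  have hF := C.D.hF
  rw [C.gam_A hA]
  rw [PData.IsA, not_or, not_not] at hnA
  obtain ⟨hw0, hw⟩ := hnA
  set w := offPart n C.k v with hwdef
  set u' := offPart n C.k u with hu'def
  have hwW : w ∈ supp (tailT n (C.k + 1)) := offPart_mem C.lt0.le hv.1
  have hu'W : u' ∈ supp (tailT n (C.k + 1)) := offPart_mem C.lt0.le hu.1
  have hdec := herm_decomp hF C.lt0 hu.1 hv.1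
  rw [h, ← hwdef, ← hu'def] at hdec
  have hx : herm q v (bas F n C.k) ≠ 0 := fun e => by
    have h1 := herm_decomp hF C.lt0 hv.1 hv.1
    rw [hv.2, hw, e, zero_mul, add_zero] at h1
    exact one_ne_zero h1
  by_cases hue : herm q u (bas F n C.k) = 0
  · have huW : C.UnitW u := by
      have h1 := offPart_mem C.lt0.le hu.1
      rw [offPart_eq' hF C.lt0.le, hue, zero_smul, sub_zero] at h1
      exact ⟨h1, hu.2⟩
    exact C.adj_symm (C.edge_good hv ⟨huW, h⟩)
  have huw : herm q u' w ≠ 0 := fun e => by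
    rw [e, add_zero, eq_comm] at hdec
    exact mul_ne_zero hue (pow_ne_zero _ hx) hdec
  have hu'0 : herm q u' u' ≠ 0 := hA.resolve_left fun e => huw (by
    rw [show u' = 0 from e, herm_zero_left])
  obtain ⟨z, hz, hz1, hzw, hzu⟩ := exists_unit_perp_pair hF (T := tailT n (C.k + 1))
    (by rw [card_tailT _ C.lt1.le]; have := C.hk; omega) hwW hu'W hu'0 (by
      rw [hw, zero_mul, zero_sub, neg_ne_zero]
      exact mul_ne_zero (fun e => huw (herm_comm_zero hF e)) huw)
  have hzv : C.Good' v z := ⟨⟨hz, hz1⟩, by rw [C.herm_W hv.1 hz]; exact hzw⟩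
  have hzu' : herm q u z = 0 := herm_comm_zero hF (by rw [C.herm_W hu.1 hz]; exact hzu)
  exact C.adj_tri (C.adj_symm (C.edge_W hu hA ⟨hz, hz1⟩ hzu'))
    (C.adj_symm (C.edge_good hv hzv))
    (by rw [C.gam_prj hv, C.gA_prj hu hA]; exact herm_comm_zero hF h)

theorem edge {v v' : Fin (n + 1) → F} (hv : C.Unit' v) (hv' : C.Unit' v')
    (h : herm q v v' = 0) : C.Adj (C.gam v) (C.gam v') := by
  have hF := C.D.hF
  have h' := herm_comm_zero hF h
  by_cases hA : PData.IsA n C.k q v <;> by_cases hA' : PData.IsA n C.k q v'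
  rotate_left
  · exact C.edge_AB hv hA hv' hA' h
  · exact C.adj_symm (C.edge_AB hv' hA' hv hA h')
  all_goals
    have hON : IsON q ({v, v'} : Finset (Fin (n + 1) → F)) :=
      isON_insert hF (isON_singleton hF hv'.2) hv.2
        (fun p hp => by rw [Finset.mem_singleton.mp hp]; exact h)
    have hPT : ∀ p ∈ ({v, v'} : Finset (Fin (n + 1) → F)), p ∈ supp (tailT n C.k) := fun p hp => by
      rcases Finset.mem_insert.mp hp with h | h
      · rw [h]; exact hv.1
      · rw [Finset.mem_singleton.mp h]; exact hv'.1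
    have hne : v ≠ v' := fun e => by
      rw [← e, hv.2] at h
      exact one_ne_zero h
    have hcard2 : ({v, v'} : Finset (Fin (n + 1) → F)).card = 2 := Finset.card_pair hne
    have hcardT : (tailT n C.k).card = n + 1 - C.k := card_tailT _ C.lt0.le
    set ρ := proj q {v, v'} (bas F n C.k) with hρ
    have hρeq : ρ = bas F n C.k - herm q (bas F n C.k) v • v - herm q (bas F n C.k) v' • v' := by
      rw [hρ, proj, Finset.sum_pair hne]; abel
    have hρρ : herm q ρ ρ = 1 - herm q v (bas F n C.k) ^ (q + 1)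
        - herm q v' (bas F n C.k) ^ (q + 1) := by
      conv_lhs => arg 3; rw [hρ]
      rw [herm_proj_right hF (fun p hp => proj_perp hON _ hp), ← hρ, hρeq, herm_sub_left,
        herm_sub_left, herm_smul_left, herm_smul_left, bas_unit hF C.lt0.le,
        ← hF.herm_symm v (bas F n C.k), ← hF.herm_symm v' (bas F n C.k), ← pow_succ, ← pow_succ]
    have finish : ∀ z, z ∈ supp (tailT n C.k) → herm q z z = 1 →
        (∀ p ∈ ({v, v'} : Finset (Fin (n + 1) → F)), herm q z p = 0) →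
        herm q z (bas F n C.k) = 0 → C.Adj (C.gam v) (C.gam v') := by
      intro z hz hz1 hzP hze
      have hzW : C.UnitW z := by
        have h1 := offPart_mem C.lt0.le hz
        rw [offPart_eq' hF C.lt0.le, hze, zero_smul, sub_zero] at h1
        exact ⟨h1, hz1⟩
      exact C.adj_tri (C.adj_symm (C.edge_good hv ⟨hzW, hzP v (Finset.mem_insert_self _ _)⟩))
        (C.adj_symm (C.edge_good hv'
          ⟨hzW, hzP v' (Finset.mem_insert_of_mem (Finset.mem_singleton_self _))⟩))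
        (by rw [C.gam_prj hv, C.gam_prj hv']; exact h')
  · -- both special
    have hx : ∀ {u : Fin (n + 1) → F}, C.Unit' u → ¬ PData.IsA n C.k q u →
        herm q u (bas F n C.k) ^ (q + 1) = 1 := fun hu hn => by
      rw [PData.IsA, not_or, not_not] at hn
      have h1 := herm_decomp hF C.lt0 hu.1 hu.1
      rw [hu.2, hn.2, add_zero] at h1
      rw [pow_succ']
      exact h1.symm
    obtain ⟨z, hz, hz1, hzP, hze⟩ := exists_unit_perp_one hF hON hPT
      (bas_mem_tail C.lt0.le le_rfl)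
      (Or.inr (by
        show herm q ρ ρ ≠ 0
        rw [hρρ, hx hv hA, hx hv' hA', sub_self, zero_sub, neg_ne_zero]
        exact one_ne_zero)) (by rw [hcard2, hcardT]; have := C.hk; omega)
    exact finish z hz hz1 hzP hze
  · -- both generic
    by_cases hres : ρ = 0 ∨ herm q ρ ρ ≠ 0
    · obtain ⟨z, hz, hz1, hzP, hze⟩ := exists_unit_perp_one hF hON hPT
        (bas_mem_tail C.lt0.le le_rfl) hres (by rw [hcard2, hcardT]; have := C.hk; omega)
      exact finish z hz hz1 hzP hze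
    push Not at hres
    have hρP : ∀ p ∈ ({v, v'} : Finset (Fin (n + 1) → F)), herm q ρ p = 0 :=
      fun p hp => proj_perp hON _ hp
    obtain ⟨z, hz, hzP, hzρ, hz1⟩ := exists_prescribed hF hON hPT
      (proj_mem hPT (bas_mem_tail C.lt0.le le_rfl)) hres.1 hres.2 hρP one_ne_zero (one_pow q)
    have hze : herm q z (bas F n C.k) = 1 := by
      rw [← herm_proj_right hF hzP]; exact hzρ
    have hzU : C.Unit' z := ⟨hz, hz1⟩
    have hzv := hzP v (Finset.mem_insert_self _ _)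
    have hzv' := hzP v' (Finset.mem_insert_of_mem (Finset.mem_singleton_self _))
    have hznA : ¬ PData.IsA n C.k q z := by
      rintro (h0 | hne')
      · rw [offPart_eq' hF C.lt0.le, hze, one_smul, sub_eq_zero] at h0
        rw [h0] at hzv hzv'
        apply one_ne_zero (α := F)
        have h2 := hres.2
        rw [hρeq, hzv, hzv', zero_smul, zero_smul, sub_zero, sub_zero,
          bas_unit hF C.lt0.le] at h2
        exact h2
      · apply hne'
        have h1 := herm_decomp hF C.lt0 hz hz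
        rw [hz1, hze, one_pow, one_mul] at h1
        linear_combination (-1 : F) * h1
    exact C.adj_tri (C.adj_symm (C.edge_AB hv hA hzU hznA (herm_comm_zero hF hzv)))
      (C.adj_symm (C.edge_AB hv' hA' hzU hznA (herm_comm_zero hF hzv')))
      (by rw [C.gam_prj hv, C.gam_prj hv']; exact h')

theorem gam_e : C.gam C.e = QuotientGroup.mk 1 := by
  rw [C.gam_A C.e_isA, C.gA_eq C.unit_e C.e_isA (one_mem _) (one_mem _) (by simp), one_mul]

theorem equivariant_of_base {x : H × Sug (n + 1) F q} (hx : x ∈ C.L0)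
    (h0 : x • C.gam C.e = C.gam (app x.2 C.e)) {v : Fin (n + 1) → F} (hv : C.Unit' v) :
    x • C.gam v = C.gam (app x.2 v) := by
  have step : ∀ {p r : Fin (n + 1) → F}, C.Unit' p → C.Unit' r → herm q p r = 0 →
      x • C.gam p = C.gam (app x.2 p) → x • C.gam r = C.gam (app x.2 r) := by
    intro p r hp hr hpr hxp
    refine C.adj_unique (c := x • C.gam p) ((C.edge hp hr hpr).smul hx) ?_ ?_
    · rw [hxp]; exact C.edge (C.unit_app hx hp) (C.unit_app hx hr) (by rw [app_herm]; exact hpr)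
    · rw [C.prj_smul, C.gam_prj hr, C.gam_prj (C.unit_app hx hr)]
  obtain ⟨a, ha, hav⟩ := C.exists_good hv
  exact step ha.unit hv hav
    (step C.unit_e ha.unit (herm_bas_tail C.D.hF C.lt0 ha.1).2 h0)

theorem Lk_equivariant {x : H × Sug (n + 1) F q} (hx : x ∈ C.L0) :
    ∀ {v : Fin (n + 1) → F}, C.Unit' v → x • C.gam v = C.gam (app x.2 v) := by
  have hP : ∀ y ∈ C.D.GP C.k, y • C.gam C.e = C.gam (app y.2 C.e) := fun y hy => by
    rw [C.gam_e, MulAction.Quotient.smul_coe, smul_eq_mul, mul_one]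
    have hu : C.Unit' (app y.2 C.e) := C.unit_app (C.D.GP_le_Lk le_rfl C.lt1 hy) C.unit_e
    have hg : C.Good' (app y.2 C.e) C.e3 := by
      refine ⟨C.e3_W, ?_⟩
      rw [← show app y.2 C.e3 = C.e3 from fix_bas (C.D.GP_mem _ C.lt1 y hy) C.le3 (by simp [tripT]),
        app_herm]
      exact (herm_bas_tail C.D.hF C.lt0 C.e3_W.1).1
    exact C.adj_unique (C.adj_symm (C.adj_e3 hy)) (C.adj_symm (C.edge_good hu hg))
      (by rw [C.gam_prj hu, prj_mk])
  induction hx using Subgroup.closure_induction with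
  | mem y hy =>
    intro v hv
    refine C.equivariant_of_base (Subgroup.subset_closure hy) ?_ hv
    have hL : y ∈ C.L1 → y • C.gam C.e = C.gam (app y.2 C.e) := fun hL1 => by
      rw [C.L1_fix hL1, C.gam_e, MulAction.Quotient.smul_coe, smul_eq_mul, mul_one]
      simpa using C.mk_mul_L1 1 hL1
    rcases hy with ⟨i, hi, hin, hy⟩ | ⟨i, hi, hin, hy⟩
    · by_cases h : i = C.k
      · subst h
        exact hP y (C.D.le0 _ C.lt1 hy)
      · exact hL (C.D.GU_le_Lk (by omega) hin hy)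
    · by_cases h : i = C.k
      · subst h
        exact hP y hy
      · exact hL (C.D.GP_le_Lk (by omega) hin hy)
  | one => intro v _; rw [one_smul]; rfl
  | mul a b ha hb iha ihb =>
    intro v hv
    rw [mul_smul, ihb hv, iha (C.unit_app hb hv), Prod.snd_mul, app_mul]
  | inv a ha iha =>
    intro v hv
    rw [inv_smul_eq_iff, iha (C.unit_app (inv_mem ha) hv), Prod.snd_inv, app_app_inv]

theorem good_step : C.D.Good C.k := by
  refine ⟨fun x hx h1 => ?_, C.D.surj_of_good C.lt2 C.good1 C.good2⟩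
  have h := C.Lk_equivariant hx C.unit_e
  rw [h1, app_one, C.gam_e, MulAction.Quotient.smul_coe, smul_eq_mul, mul_one] at h
  have hx1 : x ∈ C.L1 := by simpa using inv_mem (QuotientGroup.eq.mp h)
  exact C.good1.func x hx1 h1

end Ctx

theorem Data.good_all (D : Data F q n H) : ∀ j k : ℕ, k < n → k + j + 1 = n → D.Good k := by
  intro j
  induction j using Nat.strong_induction_on with
  | _ j ih =>
    intro k hk hkj
    have h4 := D.four_le
    by_cases h0 : j = 0
    · have := D.good_last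
      rwa [show n - 1 = k by omega] at this
    by_cases h1 : j = 1
    · have := D.good_pair
      rwa [show n - 2 = k by omega] at this
    by_cases h2 : j = 2
    · have := D.good_quad
      rwa [show n - 3 = k by omega] at this
    exact Ctx.good_step
      { D := D, k := k, hk := by omega
        good1 := ih (j - 1) (by omega) (k + 1) (by omega) (by omega)
        good2 := ih (j - 2) (by omega) (k + 2) (by omega) (by omega)
        good3 := ih (j - 3) (by omega) (k + 3) (by omega) (by omega) }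

/-- The amalgam has a homomorphism from the special unitary group. -/
theorem Data.exists_hom (D : Data F q n H) :
    ∃ Φ : Sug (n + 1) F q →* H, (∀ i, i < n → ∀ x ∈ D.GU i, Φ x.2 = x.1) ∧
      ∀ i, i + 1 < n → ∀ x ∈ D.GP i, Φ x.2 = x.1 := by
  have h4 := D.four_le
  have hg := D.good_all (n - 1) 0 (by omega) (by omega)
  have hsurj : ∀ g : Sug (n + 1) F q, ∃ x ∈ D.Lk 0, x.2 = g := fun g =>
    hg.surj g (by rw [fixT_tail_zero]; exact Subgroup.mem_top g)
  choose lift hlift hsnd using hsurj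
  have hmul : ∀ a b, (lift (a * b)).1 = (lift a).1 * (lift b).1 := fun a b => by
    rw [hg.func.eq (hlift (a * b)) (mul_mem (hlift a) (hlift b))
      (by rw [Prod.snd_mul, hsnd, hsnd, hsnd]), Prod.fst_mul]
  refine ⟨MonoidHom.mk' (fun g => (lift g).1) hmul, fun i hi x hx => ?_, fun i hi x hx => ?_⟩
  · simp [hg.func.eq (hlift x.2) (D.GU_le_Lk (Nat.zero_le i) hi hx) (hsnd x.2)]
  · simp [hg.func.eq (hlift x.2) (D.GP_le_Lk (Nat.zero_le i) hi hx) (hsnd x.2)]

end

end Cfsg.Agent.PhanSU.Two
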