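import Cfsg.Agent.PhanSU.Two.Basic
import Cfsg.Agent.PhanSU.Amalgam

/-!
Commuting elements of order three in the four-dimensional group have a common orthonormal
eigenbasis.
-/

set_option autoImplicit false
set_option linter.style.haveILetI false

open scoped Classical

namespace Cfsg.Agent.PhanSU.Two

open Cfsg.Agent.Classical.U Matrix

universe u

noncomputable section

variable {F : Type u} [Field F] (K : Four F) {m : ℕ}

/-- An eigenvector. -/
def IsEv (x : Sug m F 2) (v : Fin m → F) : Prop := ∃ c : F, app x v = c • v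

include K

theorem herm_self_cases (v : Fin m → F) : herm 2 v v = 0 ∨ herm 2 v v = 1 := by
  have h : herm 2 v v * (herm 2 v v - 1) = 0 := by linear_combination K.hF.herm_symm v v
  rcases mul_eq_zero.mp h with h | h
  exacts [Or.inl h, Or.inr (sub_eq_zero.mp h)]

theorem split_step {x : Sug m F 2} (hx : x ^ 3 = 1) {S : Submodule F (Fin m → F)}
    (hS : ∀ v ∈ S, app x v ∈ S) {v : Fin m → F} (hv : v ∈ S) (h1 : herm 2 v v = 1) :
    ∃ z ∈ S, herm 2 z z = 1 ∧ IsEv x z := by
  set y := app x v with hy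
  set y2 := app x y with hy2
  have h3 : app x y2 = v := by
    rw [hy2, hy, ← app_mul, ← app_mul, show x * x * x = x ^ 3 by rw [pow_succ, sq], hx, app_one]
  let P : F → (Fin m → F) := fun c => v + c ^ 2 • y + c • y2
  have hP : ∀ c : F, c ^ 3 = 1 → IsEv x (P c) ∧ P c ∈ S := fun c hc => by
    refine ⟨⟨c, ?_⟩, S.add_mem (S.add_mem hv (S.smul_mem _ (hS v hv)))
      (S.smul_mem _ (hS y (hS v hv)))⟩
    show app x (v + c ^ 2 • y + c • y2) = _
    rw [app_add, app_add, app_smul, app_smul, ← hy, ← hy2, h3]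
    show _ = c • (v + c ^ 2 • y + c • y2)
    rw [smul_add, smul_add, smul_smul, smul_smul, ← pow_succ', hc, one_smul, ← sq]
    abel
  suffices h : ∃ c, c ^ 3 = 1 ∧ herm 2 (P c) (P c) = 1 by
    obtain ⟨c, hc, h⟩ := h
    exact ⟨_, (hP c hc).2, h, (hP c hc).1⟩
  by_contra hne
  push Not at hne
  have h0 : ∀ c, c ^ 3 = 1 → herm 2 (P c) (P c) = 0 := fun c hc =>
    (herm_self_cases K _).resolve_right (hne c hc)
  have a1 : herm 2 y y = 1 := by rw [hy, app_herm, h1]
  have a2 : herm 2 y2 y2 = 1 := by rw [hy2, app_herm, a1]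
  have gen : ∀ c : F, c ^ 3 = 1 → 3 + c * (herm 2 y y2 + herm 2 v y + herm 2 y2 v)
      + c ^ 2 * (herm 2 y v + herm 2 v y2 + herm 2 y2 y) = 0 := fun c hc => by
    have e := h0 c hc
    simp only [P, herm_add_left, K.hF.herm_add_right, herm_smul_left, herm_smul_right, h1, a1, a2]
      at e
    linear_combination e
      - (c * herm 2 v y + c ^ 2 * herm 2 y2 y + c * herm 2 y y2 + c ^ 3 + 2) * hc
  have ea := gen 1 (one_pow 3)
  have eb := gen K.w K.w_cube
  have ec := gen (K.w ^ 2) (by rw [← pow_mul, mul_comm, pow_mul, K.w_cube, one_pow])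
  exact one_ne_zero (α := F) (by
    linear_combination ea + eb + ec - ((herm 2 y y2 + herm 2 v y + herm 2 y2 v)
      + (K.w ^ 2 - K.w + 1) * (herm 2 y v + herm 2 v y2 + herm 2 y2 y)) * K.hw - 4 * K.two)

theorem exists_common (x : Fin 3 → Sug m F 2) (h3 : ∀ i, x i ^ 3 = 1)
    (hc : ∀ i j, x i * x j = x j * x i) {S : Submodule F (Fin m → F)}
    (hS : ∀ i, ∀ v ∈ S, app (x i) v ∈ S) {v : Fin m → F} (hv : v ∈ S) (h1 : herm 2 v v = 1) :
    ∃ z ∈ S, herm 2 z z = 1 ∧ ∀ i, IsEv (x i) z := by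
  let Eg : Fin 3 → F → Submodule F (Fin m → F) := fun i c =>
    { carrier := {u | app (x i) u = c • u}
      add_mem' := fun {a b} ha hb => by
        show app (x i) (a + b) = c • (a + b)
        rw [app_add, show app (x i) a = c • a from ha, show app (x i) b = c • b from hb, smul_add]
      zero_mem' := by show app (x i) 0 = c • (0 : Fin m → F); rw [app_zero, smul_zero]
      smul_mem' := fun d a ha => by
        show app (x i) (d • a) = c • (d • a)
        rw [app_smul, show app (x i) a = c • a from ha, smul_comm] }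
  have inv : ∀ i j c, ∀ u ∈ Eg i c, app (x j) u ∈ Eg i c := fun i j c u hu => by
    show app (x i) (app (x j) u) = c • app (x j) u
    rw [← app_mul, hc, app_mul, show app (x i) u = c • u from hu, app_smul]
  obtain ⟨z0, hz0, h0, c0, e0⟩ := split_step K (h3 0) (hS 0) hv h1
  obtain ⟨z1, ⟨hz1, hz1'⟩, h1', c1, e1⟩ := split_step K (h3 1) (S := S ⊓ Eg 0 c0)
    (fun u hu => ⟨hS 1 u hu.1, inv 0 1 c0 u hu.2⟩) ⟨hz0, e0⟩ h0
  obtain ⟨z2, ⟨⟨hz2, hz2'⟩, hz2''⟩, h2', c2, e2⟩ := split_step K (h3 2)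
    (S := (S ⊓ Eg 0 c0) ⊓ Eg 1 c1)
    (fun u hu => ⟨⟨hS 2 u hu.1.1, inv 0 2 c0 u hu.1.2⟩, inv 1 2 c1 u hu.2⟩)
    ⟨⟨hz1, hz1'⟩, e1⟩ h1'
  refine ⟨z2, hz2, h2', fun i => ?_⟩
  fin_cases i
  exacts [⟨c0, hz2'⟩, ⟨c1, hz2''⟩, ⟨c2, e2⟩]

theorem ev_supp {x : Sug m F 2} {T : Finset (Fin m)} (h : ∀ l, l ∉ T → IsEv x (dd l))
    {v : Fin m → F} (hv : v ∈ supp T) : app x v ∈ supp T := by
  intro l hl
  obtain ⟨c, hc⟩ := h l hl
  have hc0 : c ≠ 0 := fun e => by
    have h1 := app_herm x (dd l) (dd l)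
    rw [hc, e, zero_smul, herm_zero_left, dd_unit K.hF] at h1
    exact zero_ne_one h1
  have h1 := app_herm x v (dd l)
  rw [hc, herm_smul_right, herm_dd K.hF, herm_dd K.hF, hv l hl] at h1
  exact (mul_eq_zero.mp h1).resolve_left (pow_ne_zero _ hc0)

omit K in
/-- The last coordinates. -/
def lastT (k : ℕ) : Finset (Fin 4) := Finset.univ.filter fun l => k ≤ (l : ℕ)

theorem exists_diag (x : Fin 3 → Sug 4 F 2) (h3 : ∀ i, x i ^ 3 = 1)
    (hc : ∀ i j, x i * x j = x j * x i) :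
    ∃ g : Sug 4 F 2, ∀ i l, IsEv (g⁻¹ * x i * g) (dd l) := by
  suffices H : ∀ k : ℕ, k ≤ 3 → ∃ g : Sug 4 F 2, ∀ i, ∀ l : Fin 4, (l : ℕ) < k →
      IsEv (g⁻¹ * x i * g) (dd l) by
    obtain ⟨g, hg⟩ := H 3 le_rfl
    refine ⟨g, fun i l => ?_⟩
    by_cases hl : (l : ℕ) < 3
    · exact hg i l hl
    · obtain rfl : l = 3 := Fin.ext (by simp; omega)
      refine ⟨app (g⁻¹ * x i * g) (dd 3) 3, funext fun j => ?_⟩
      by_cases hj : j = 3
      · subst hj; simp [dd]
      · rw [Pi.smul_apply, dd_ne hj, smul_zero]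
        exact ev_supp K (T := {3}) (fun l' hl' => hg i l' (by simp at hl'; omega))
          (dd_mem_supp (Finset.mem_singleton_self 3)) j (by simpa using hj)
  intro k
  induction k with
  | zero => exact fun _ => ⟨1, fun i l hl => absurd hl (Nat.not_lt_zero _)⟩
  | succ k ih =>
    intro hk
    obtain ⟨g, hg⟩ := ih (by omega)
    set T := lastT k with hT
    have hmem : ∀ l : Fin 4, l ∈ T ↔ k ≤ (l : ℕ) := fun l => by simp [hT, lastT]
    set y : Fin 3 → Sug 4 F 2 := fun i => g⁻¹ * x i * g with hy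
    have hk4 : (⟨k, by omega⟩ : Fin 4) ∈ T := (hmem _).2 le_rfl
    obtain ⟨v, hv, hv1, hve⟩ := exists_common K y
      (fun i => by
        rw [hy]; simp only
        rw [show g⁻¹ * x i * g = MulAut.conj g⁻¹ (x i) by simp, ← map_pow, h3, map_one])
      (fun i j => by
        rw [hy]; simp only
        rw [show g⁻¹ * x i * g = MulAut.conj g⁻¹ (x i) by simp,
          show g⁻¹ * x j * g = MulAut.conj g⁻¹ (x j) by simp, ← map_mul, hc, map_mul])
      (S := supp T)
      (fun i u hu => ev_supp K (fun l hl => hg i l (by rw [hmem] at hl; omega)) hu)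
      (dd_mem_supp hk4) (dd_unit K.hF _)
    have hcard : 1 < T.card := by
      refine Finset.one_lt_card.mpr ⟨_, hk4, 3, (hmem _).2 (by simp; omega), fun e => ?_⟩
      have := congrArg Fin.val e
      simp at this
      omega
    obtain ⟨h, hh, hhe⟩ := exists_fixT_map K.hF hcard (dd_mem_supp hk4) hv (dd_unit K.hF _) hv1
    refine ⟨g * h, fun i l hl => ?_⟩
    have key : (g * h)⁻¹ * x i * (g * h) = h⁻¹ * y i * h := by rw [hy]; group
    rw [key]
    by_cases hlk : (l : ℕ) = k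
    · rw [show l = ⟨k, by omega⟩ from Fin.ext hlk]
      obtain ⟨c, hc'⟩ := hve i
      exact ⟨c, by rw [app_mul, app_mul, hhe, hc', app_smul, ← hhe, app_inv_app]⟩
    · obtain ⟨c, hc'⟩ := hg i l (by omega)
      have hl' : l ∉ T := fun e => by rw [hmem] at e; omega
      exact ⟨c, by rw [app_mul, app_mul, hh l hl', hc', app_smul, inv_mem hh l hl']⟩

end

end Cfsg.Agent.PhanSU.Two
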