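import Cfsg.Agent.PhanSU.Two.Basic

/-!
Homomorphisms on the three-dimensional group over the field with four elements are determined by
the two blocks when those act as standard blocks.
-/

set_option autoImplicit false
set_option linter.style.haveILetI false

open scoped Classical

namespace Cfsg.Agent.PhanSU.Two

open Cfsg.Agent.Classical.U Matrix

universe u

noncomputable section

variable {F : Type u} [Field F] (K : Four F)

include K

theorem exists_su {m : ℕ} (M : Matrix (Fin m) (Fin m) F) (hd : M.det = 1)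
    (h : Mᵀ * M.map (fun x => x ^ 2) = 1) : ∃ x : Cfsg.SU m F 2, sm x = M := by
  obtain ⟨σ, hσ⟩ := exists_frob K.hF
  refine ⟨⟨⟨M, hd⟩, fun u v => ?_⟩, rfl⟩
  show herm 2 (M.mulVec u) (M.mulVec v) = herm 2 u v
  have e1 : ∀ a b : Fin m → F, herm 2 a b = a ⬝ᵥ (σ ∘ b) := fun a b => by
    simp [herm_def, dotProduct, hσ]
  have e2 : σ ∘ M.mulVec v = (M.map σ).mulVec (σ ∘ v) := by
    funext i; exact RingHom.map_mulVec σ M v i
  have h' : Mᵀ * M.map σ = 1 := by
    rwa [show M.map σ = M.map (fun x => x ^ 2) from congrArg M.map (funext hσ)]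
  rw [e1, e1, e2, ← Matrix.vecMul_transpose, ← Matrix.dotProduct_mulVec, Matrix.mulVec_mulVec,
    h', Matrix.one_mulVec]

omit K in
/-- The extra element. -/
def Xmat (w δ : F) : Matrix (Fin 3) (Fin 3) F :=
  !![1, δ, δ; δ ^ 2, w, w ^ 2; δ ^ 2, w ^ 2, w]

theorem exists_X {δ : F} (hδ : δ ≠ 0) : ∃ X : Cfsg.SU 3 F 2, sm X = Xmat K.w δ := by
  have h2 := K.two
  have hd := K.pow_three hδ
  have hw := K.hw
  refine exists_su K _ ?_ ?_
  · simp [Xmat, Matrix.det_fin_three]
    grobner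
  · ext i j
    fin_cases i <;> fin_cases j <;>
      simp [Xmat, Matrix.mul_apply, Fin.sum_univ_three] <;> grobner

theorem exists_shift {δ : F} (hδ : δ ≠ 0) (E : Subgroup (Cfsg.SU 3 F 2))
    (h01 : ∀ x, e01 x ∈ E) (h12 : ∀ x, e12 x ∈ E) :
    ∃ S ∈ E, sm S = !![0, δ, 0; 0, 0, 1; δ ^ 2, 0, 0] := by
  obtain ⟨d, hd⟩ := K.exists_tor_el hδ
  have hd3 := K.pow_three hδ
  refine ⟨e01 d * e12 d * e12 K.t * e01 K.t, mul_mem (mul_mem (mul_mem (h01 _) (h12 _)) (h12 _))
    (h01 _), ?_⟩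
  rw [sm_mul, sm_mul, sm_mul, sm_e01 d, sm_e12 d, K.sm_t01, K.sm_t12, hd]
  ext i j
  fin_cases i <;> fin_cases j <;> simp [Matrix.mul_apply, Fin.sum_univ_three] <;> grobner

theorem column_cases (g : Cfsg.SU 3 F 2) (E : Subgroup (Cfsg.SU 3 F 2))
    (h01 : ∀ x, e01 x ∈ E) (h12 : ∀ x, e12 x ∈ E)
    (hX : ∀ δ : F, δ ≠ 0 → ∀ X : Cfsg.SU 3 F 2, sm X = Xmat K.w δ → X ∈ E) :
    ∃ h ∈ E, ∀ i, sm h i 2 = sm g i 2 := by
  set x := sm g 0 2
  set y := sm g 1 2
  set z := sm g 2 2
  have h2 := K.two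
  have hn : x * x ^ 2 + y * y ^ 2 + z * z ^ 2 = 1 := by
    have := sm_herm g ![0, 0, 1] ![0, 0, 1]
    simpa [Matrix.mulVec, dotProduct, Fin.sum_univ_three, herm_def] using this
  have cube : ∀ {a : F}, a ≠ 0 → a * a ^ 2 = 1 := fun ha => by
    rw [← pow_succ']; exact K.pow_three ha
  have fin3 : ∀ h : Cfsg.SU 3 F 2, h ∈ E → sm h 0 2 = x → sm h 1 2 = y → sm h 2 2 = z →
      ∃ h ∈ E, ∀ i, sm h i 2 = sm g i 2 := fun h he a b c =>
    ⟨h, he, fun i => by fin_cases i <;> assumption⟩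
  by_cases hx : x = 0 <;> by_cases hy : y = 0 <;> by_cases hz : z = 0
  · rw [hx, hy, hz] at hn
    simp at hn
  · obtain ⟨d, hd⟩ := K.exists_tor_el (pow_ne_zero 2 hz)
    refine fin3 (e12 d) (h12 _) ?_ ?_ ?_ <;> rw [sm_e12, hd] <;> simp [hx, hy]
    linear_combination z * K.pow_three hz
  · obtain ⟨d, hd⟩ := K.exists_tor_el (pow_ne_zero 2 hy)
    refine fin3 (e12 K.t * e12 d) (mul_mem (h12 _) (h12 _)) ?_ ?_ ?_ <;>
      rw [sm_mul, K.sm_t12, sm_e12, hd] <;> simp [Matrix.mul_apply, Fin.sum_univ_three, hx, hz]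
    linear_combination y * K.pow_three hy
  · rw [hx, cube hy, cube hz] at hn
    simp at hn
    try exact absurd hn (by rw [← two_mul, mul_one, h2]; exact zero_ne_one)
  · obtain ⟨d, hd⟩ := K.exists_tor_el (pow_ne_zero 2 hx)
    refine fin3 (e01 K.t * e12 K.t * e12 d) (mul_mem (mul_mem (h01 _) (h12 _)) (h12 _)) ?_ ?_ ?_ <;>
      rw [sm_mul, sm_mul, K.sm_t12, K.sm_t01, sm_e12, hd] <;>
      simp [Matrix.mul_apply, Fin.sum_univ_three, hy, hz]
    linear_combination x * K.pow_three hx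
  · rw [hy, cube hx, cube hz] at hn
    simp at hn
    try exact absurd hn (by rw [← two_mul, mul_one, h2]; exact zero_ne_one)
  · rw [hz, cube hx, cube hy] at hn
    simp at hn
    try exact absurd hn (by rw [← two_mul, mul_one, h2]; exact zero_ne_one)
  · have hδ : x * y * z ≠ 0 := mul_ne_zero (mul_ne_zero hx hy) hz
    have ha : (y * z) ^ 2 ≠ 0 := pow_ne_zero _ (mul_ne_zero hy hz)
    have hb : (y * z) ^ 2 * (y * K.w) ≠ 0 := mul_ne_zero ha (mul_ne_zero hy K.w_ne_zero)
    obtain ⟨X, hXe⟩ := exists_X K hδ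
    obtain ⟨d, hd⟩ := K.exists_tor_el ha
    obtain ⟨d', hd'⟩ := K.exists_tor_el hb
    have h3x := K.pow_three hx
    have h3y := K.pow_three hy
    have h3z := K.pow_three hz
    have h3w := K.w_cube
    refine fin3 (e01 d * e12 d' * X) (mul_mem (mul_mem (h01 _) (h12 _)) (hX _ hδ X hXe)) ?_ ?_ ?_ <;>
      rw [sm_mul, sm_mul, sm_e01, sm_e12, hd, hd', hXe] <;>
      simp [Xmat, Matrix.mul_apply, Fin.sum_univ_three] <;> grobner

omit K in
/-- Elements whose last column is the last basis vector lie in the first block. -/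
theorem mem_e01_of_column (hF : SqField F 2) (g : Cfsg.SU 3 F 2) (h : ∀ i, sm g i 2 = dd 2 i) :
    g ∈ (e01 (F := F) (q := 2)).range := by
  have hm : suEquiv 3 F 2 g ∈ (embS (F := F) (q := 2) injective01).range := by
    rw [range_embS injective01 hF]
    intro l hl
    obtain rfl : l = 2 := by fin_cases l <;> simp at hl ⊢
    rw [app_suEquiv, dd, Matrix.mulVec_single_one]
    funext i
    exact h i
  obtain ⟨A, hA⟩ := hm
  exact ⟨A, (suEquiv 3 F 2).injective hA⟩

theorem su3_top (E : Subgroup (Cfsg.SU 3 F 2))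
    (h01 : ∀ x, e01 x ∈ E) (h12 : ∀ x, e12 x ∈ E)
    (hX : ∀ δ : F, δ ≠ 0 → ∀ X : Cfsg.SU 3 F 2, sm X = Xmat K.w δ → X ∈ E) :
    E = ⊤ := by
  refine top_unique fun g _ => ?_
  obtain ⟨h, hh, hcol⟩ := column_cases K g E h01 h12 hX
  obtain ⟨A, hA⟩ := mem_e01_of_column K.hF (h⁻¹ * g) fun i => by
    have e : (fun k => sm g k 2) = fun k => sm h k 2 := funext fun k => (hcol k).symm
    have : sm (h⁻¹ * g) i 2 = sm (h⁻¹ * h) i 2 := by
      rw [sm_mul, sm_mul, Matrix.mul_apply, Matrix.mul_apply]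
      exact Finset.sum_congr rfl fun k _ => by rw [hcol]
    rw [this, inv_mul_cancel, sm_one]
    simp [dd, Matrix.one_apply, Pi.single_apply]
  rw [show g = h * (h⁻¹ * g) by group, ← hA]
  exact mul_mem hh (h01 _)

omit K in
theorem sm_emb_diag {f : Fin 3 → Fin 4} (hf : Function.Injective f) {A : Cfsg.SU 3 F 2}
    {d : Fin 3 → F} (h : sm A = Matrix.diagonal d) :
    sm (emb hf A) = Matrix.diagonal (Function.extend f d 1) := by
  ext l l'
  by_cases hr : l ∈ Set.range f ∧ l' ∈ Set.range f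
  · obtain ⟨⟨i, rfl⟩, j, rfl⟩ := hr
    rw [sm_emb, bmat_block, h]
    simp [Matrix.diagonal_apply, hf.eq_iff, hf.extend_apply]
  · rw [not_and_or] at hr
    rw [emb_off hf A hr]
    by_cases e : l = l'
    · subst e
      rw [or_self] at hr
      rw [Matrix.one_apply_eq, Matrix.diagonal_apply_eq, Function.extend_apply' _ _ _ hr]
      rfl
    · rw [Matrix.one_apply_ne e, Matrix.diagonal_apply_ne _ e]

/-- Uniqueness of the extension. -/
theorem hom_eq {f : Fin 3 → Fin 4} (hf : Function.Injective f)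
    (hoff : ∀ l l' : Fin 4, l ∉ Set.range f → l' ∉ Set.range f → l = l')
    (a : Cfsg.SU 3 F 2 →* Cfsg.SU 4 F 2)
    (h01 : ∀ x, a (e01 x) = emb hf (e01 x)) (h12 : ∀ x, a (e12 x) = emb hf (e12 x)) :
    a = emb hf := by
  set E := MonoidHom.eqLocus a (emb hf) with hE
  suffices h : E = ⊤ by
    refine MonoidHom.ext fun g => ?_
    have : g ∈ E := h ▸ Subgroup.mem_top g
    exact this
  refine su3_top K E h01 h12 fun δ hδ X hX => ?_
  obtain ⟨S, hS, hSe⟩ := exists_shift K hδ E h01 h12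
  obtain ⟨k, hk⟩ : ∃ k, k = (emb hf X)⁻¹ * a X := ⟨_, rfl⟩
  have comm : ∀ p q : Cfsg.SU 3 F 2, p ∈ E → q ∈ E → X * p = q * X →
      sm k * sm (emb hf p) = sm (emb hf p) * sm k := by
    intro p q hp hq h
    rw [← sm_mul, ← sm_mul]
    congr 1
    have e1 := congrArg a h
    have e2 := congrArg (emb hf) h
    rw [map_mul, map_mul, show a p = emb hf p from hp, show a q = emb hf q from hq] at e1
    rw [map_mul, map_mul] at e2
    have e3 : emb hf p * (emb hf X)⁻¹ = (emb hf X)⁻¹ * emb hf q := by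
      rw [mul_inv_eq_iff_eq_mul, mul_assoc, ← e2, inv_mul_cancel_left]
    rw [hk, mul_assoc, e1, ← mul_assoc, ← e3, mul_assoc]
  have h2 := K.two
  have hd := K.pow_three hδ
  have hw := K.hw
  have hc2 : e12 K.c * e12 K.c ∈ E := mul_mem (h12 _) (h12 _)
  have r12 : X * e12 K.c = S * X := sm_ext (by
    rw [sm_mul, sm_mul, hX, K.sm_c12, hSe]
    ext i j
    fin_cases i <;> fin_cases j <;>
      simp [Xmat, Matrix.mul_apply, Fin.sum_univ_three] <;> grobner)
  have r01 : X * e01 K.c = (e01 K.c * (e12 K.c * e12 K.c) * S) * X := sm_ext (by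
    rw [sm_mul, sm_mul, sm_mul, sm_mul, sm_mul, hX, K.sm_c12, K.sm_c01, hSe]
    ext i j
    fin_cases i <;> fin_cases j <;>
      simp [Xmat, Matrix.mul_apply, Fin.sum_univ_three] <;> grobner)
  have rS : X * S = (e12 K.c * e12 K.c) * X := sm_ext (by
    rw [sm_mul, sm_mul, sm_mul, hX, K.sm_c12, hSe]
    ext i j
    fin_cases i <;> fin_cases j <;>
      simp [Xmat, Matrix.mul_apply, Fin.sum_univ_three] <;> grobner)
  have r2 : X * X = e12 K.t := sm_ext (by
    rw [sm_mul, hX, K.sm_t12]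
    ext i j
    fin_cases i <;> fin_cases j <;>
      simp [Xmat, Matrix.mul_apply, Fin.sum_univ_three] <;> grobner)
  have c1 := comm _ _ (h01 _) (mul_mem (mul_mem (h01 _) hc2) hS) r01
  have c2 := comm _ _ (h12 _) hS r12
  have c3 := comm _ _ hS hc2 rS
  rw [sm_emb_diag hf K.sm_c01] at c1
  rw [sm_emb_diag hf K.sm_c12] at c2
  have hdiag : ∀ l l', l ≠ l' → sm k l l' = 0 := by
    intro l l' hne
    by_contra hk0
    have k1 := congrFun (congrFun c1 l) l'
    have k2 := congrFun (congrFun c2 l) l'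
    rw [Matrix.mul_diagonal, Matrix.diagonal_mul, mul_comm (sm k l l')] at k1 k2
    have a1 := mul_right_cancel₀ hk0 k1
    have a2 := mul_right_cancel₀ hk0 k2
    have n1 := K.w_ne_one
    have n2 := K.w2_ne_one
    have n3 := K.w2_ne_w
    by_cases hl : l ∈ Set.range f <;> by_cases hl' : l' ∈ Set.range f
    · obtain ⟨i, rfl⟩ := hl
      obtain ⟨j, rfl⟩ := hl'
      rw [hf.extend_apply, hf.extend_apply] at a1 a2
      fin_cases i <;> fin_cases j <;> first
        | exact hne rfl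
        | (simp at a1 a2; grobner)
    · obtain ⟨i, rfl⟩ := hl
      rw [hf.extend_apply, Function.extend_apply' _ _ _ hl'] at a1 a2
      fin_cases i <;> simp at a1 a2 <;> grobner
    · obtain ⟨i, rfl⟩ := hl'
      rw [hf.extend_apply, Function.extend_apply' _ _ _ hl] at a1 a2
      fin_cases i <;> simp at a1 a2 <;> grobner
    · exact hne (hoff l l' hl hl')
  have hkd : sm k = Matrix.diagonal fun l => sm k l l := by
    ext l l'
    by_cases e : l = l'
    · subst e; simp
    · rw [hdiag l l' e, Matrix.diagonal_apply_ne _ e]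
  set κ := fun l => sm k l l with hκ
  rw [hkd] at c3
  have e01' := congrFun (congrFun c3 (f 0)) (f 1)
  have e12' := congrFun (congrFun c3 (f 1)) (f 2)
  rw [Matrix.diagonal_mul, Matrix.mul_diagonal, sm_emb, bmat_block, hSe] at e01' e12'
  simp at e01' e12'
  have q01 : κ (f 0) = κ (f 1) := mul_right_cancel₀ hδ (e01'.trans (mul_comm _ _))
  have hκc : ∀ i, κ (f i) = κ (f 0) := fun i => by
    fin_cases i
    exacts [rfl, q01.symm, (q01.trans e12').symm]
  have hcX : k * emb hf X = emb hf X * k := sm_ext (by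
    rw [sm_mul, sm_mul, hkd]
    ext l l'
    rw [Matrix.diagonal_mul, Matrix.mul_diagonal, sm_emb]
    by_cases hr : l ∈ Set.range f ∧ l' ∈ Set.range f
    · obtain ⟨⟨i, rfl⟩, j, rfl⟩ := hr
      rw [hκc i, hκc j, mul_comm]
    · rw [not_and_or] at hr
      rw [bmat_off hf _ hr]
      by_cases e : l = l'
      · subst e; rw [mul_comm]
      · rw [Matrix.one_apply_ne e, mul_zero, zero_mul])
  have haX : a X = emb hf X * k := by rw [hk, mul_inv_cancel_left]
  have hk2 : k * k = 1 := by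
    have h := congrArg a r2
    rw [map_mul, show a (e12 K.t) = emb hf (e12 K.t) from h12 _, ← r2, map_mul, haX] at h
    rw [show emb hf X * k * (emb hf X * k) = emb hf X * (k * emb hf X) * k by simp [mul_assoc],
      hcX, show emb hf X * (emb hf X * k) * k = emb hf X * emb hf X * (k * k) by simp [mul_assoc]]
      at h
    exact mul_eq_left.mp h
  show a X = emb hf X
  suffices k = 1 by rw [haX, this, mul_one]
  apply sm_ext
  have h := congrArg sm hk2
  rw [sm_mul, hkd, Matrix.diagonal_mul_diagonal, sm_one, ← Matrix.diagonal_one] at h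
  rw [hkd, sm_one, ← Matrix.diagonal_one]
  congr 1
  funext l
  have hl : κ l * κ l = 1 := congrFun (Matrix.diagonal_injective h) l
  have : (κ l - 1) ^ 2 = 0 := by linear_combination hl + (1 - κ l) * h2
  exact sub_eq_zero.mp (pow_eq_zero_iff (by norm_num) |>.mp this)

end

end Cfsg.Agent.PhanSU.Two
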