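import Cfsg.Agent.PhanSU.Two.Eigen
import Cfsg.Agent.PhanSU.Two.Unique
import Cfsg.Agent.PhanSU.Two.Comb
import Cfsg.Agent.PhanSU.Align
import Cfsg.Agent.Classical.USimple

/-!
Two aligned pairs in a quotient of the four-dimensional group extend to the standard embedding.
-/

set_option autoImplicit false
set_option linter.style.haveILetI false

open scoped Classical

namespace Cfsg.Agent.PhanSU.Two

open Cfsg.Agent.Classical.U Matrix Comb

universe u v

noncomputable section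

variable {F : Type u} [Field F] (K : Four F)

/-- The diagonal matrix with given exponents. -/
abbrev dia (A : Ex) : Matrix (Fin 4) (Fin 4) F := Matrix.diagonal fun i => K.chi (A i)

/-- The first three coordinates. -/
def s012 : Fin 3 → Fin 4 := ![0, 1, 2]

/-- The last three coordinates. -/
def s123 : Fin 3 → Fin 4 := ![1, 2, 3]

theorem inj012 : Function.Injective s012 := by decide

theorem inj123 : Function.Injective s123 := by decide

theorem off012 {l l' : Fin 4} (h : l ∉ Set.range s012) (h' : l' ∉ Set.range s012) : l = l' := by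
  fin_cases l <;> fin_cases l' <;> simp [s012] at h h' ⊢

theorem off123 {l l' : Fin 4} (h : l ∉ Set.range s123) (h' : l' ∉ Set.range s123) : l = l' := by
  fin_cases l <;> fin_cases l' <;> simp [s123] at h h' ⊢

theorem sm_emb012 {q : ℕ} (A : Cfsg.SU 3 F q) : sm (emb inj012 A) =
    !![sm A 0 0, sm A 0 1, sm A 0 2, 0; sm A 1 0, sm A 1 1, sm A 1 2, 0;
      sm A 2 0, sm A 2 1, sm A 2 2, 0; 0, 0, 0, 1] := by
  have h3 : (3 : Fin 4) ∉ Set.range s012 := by simp [s012]
  have b : ∀ i j, sm (emb inj012 A) (s012 i) (s012 j) = sm A i j := bmat_block inj012 _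
  ext i j
  fin_cases i <;> fin_cases j
  · exact b 0 0
  · exact b 0 1
  · exact b 0 2
  · exact emb_off inj012 A (Or.inr h3)
  · exact b 1 0
  · exact b 1 1
  · exact b 1 2
  · exact emb_off inj012 A (Or.inr h3)
  · exact b 2 0
  · exact b 2 1
  · exact b 2 2
  · exact emb_off inj012 A (Or.inr h3)
  all_goals exact emb_off inj012 A (Or.inl h3)

theorem sm_emb123 {q : ℕ} (A : Cfsg.SU 3 F q) : sm (emb inj123 A) =
    !![1, 0, 0, 0; 0, sm A 0 0, sm A 0 1, sm A 0 2; 0, sm A 1 0, sm A 1 1, sm A 1 2;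
      0, sm A 2 0, sm A 2 1, sm A 2 2] := by
  have h0 : (0 : Fin 4) ∉ Set.range s123 := by simp [s123]
  have b : ∀ i j, sm (emb inj123 A) (s123 i) (s123 j) = sm A i j := bmat_block inj123 _
  ext i j
  fin_cases i <;> fin_cases j
  · exact emb_off inj123 A (Or.inl h0)
  · exact emb_off inj123 A (Or.inl h0)
  · exact emb_off inj123 A (Or.inl h0)
  · exact emb_off inj123 A (Or.inl h0)
  · exact emb_off inj123 A (Or.inr h0)
  · exact b 0 0
  · exact b 0 1
  · exact b 0 2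
  · exact emb_off inj123 A (Or.inr h0)
  · exact b 1 0
  · exact b 1 1
  · exact b 1 2
  · exact emb_off inj123 A (Or.inr h0)
  · exact b 2 0
  · exact b 2 1
  · exact b 2 2

include K

theorem dia_mul (A B : Ex) : dia K A * dia K B = dia K (A + B) := by
  rw [Matrix.diagonal_mul_diagonal]
  congr 1
  funext i
  exact (K.chi_add _ _).symm

theorem dia_inj {A B : Ex} (h : dia K A = dia K B) : A = B :=
  funext fun i => K.chi_inj (congrFun (Matrix.diagonal_injective h) i)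

theorem dia_zero : dia K 0 = 1 := by
  rw [← Matrix.diagonal_one]
  exact congrArg Matrix.diagonal (funext fun i => K.chi_zero)

theorem exists_dia (x : Cfsg.SU 4 F 2) (h : ∀ i j, i ≠ j → sm x i j = 0) : ∃ A, sm x = dia K A := by
  have hd : sm x = Matrix.diagonal fun i => sm x i i := by
    ext i j
    by_cases e : i = j
    · subst e; simp
    · rw [h i j e, Matrix.diagonal_apply_ne _ e]
  have hne : ∀ i, sm x i i ≠ 0 := fun i e => by
    have h1 : (sm x).det = 1 := x.1.2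
    rw [hd, Matrix.det_diagonal] at h1
    exact zero_ne_one ((Finset.prod_eq_zero (f := fun i => sm x i i) (Finset.mem_univ i) e).symm.trans h1)
  choose A hA using fun i => K.exists_chi (hne i)
  exact ⟨A, hd.trans (congrArg _ (funext hA))⟩

theorem dia_sum {x : Cfsg.SU 4 F 2} {A : Ex} (h : sm x = dia K A) : A 0 + A 1 + A 2 + A 3 = 0 := by
  have h1 : (sm x).det = 1 := x.1.2
  rw [h, Matrix.det_diagonal, Fin.prod_univ_four, ← K.chi_add, ← K.chi_add, ← K.chi_add,
    ← K.chi_zero] at h1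
  exact K.chi_inj h1

theorem trace_dia (A : Ex) :
    (dia K A).trace = ((cnt A 0 + cnt A 2 : ℕ) : F) + ((cnt A 1 + cnt A 2 : ℕ) : F) * K.w := by
  have h : ∀ a : ZMod 3, K.chi a = (((if a = 0 then 1 else 0) + (if a = 2 then 1 else 0) : ℕ) : F)
      + (((if a = 1 then 1 else 0) + (if a = 2 then 1 else 0) : ℕ) : F) * K.w := by
    intro a
    have ha : a = 0 ∨ a = 1 ∨ a = 2 := by revert a; decide
    rcases ha with rfl | rfl | rfl
    · simp [K.chi_zero, show (0 : ZMod 3) ≠ 2 by decide, show (0 : ZMod 3) ≠ 1 by decide]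
    · simp [K.chi_one, show (1 : ZMod 3) ≠ 2 by decide, show (1 : ZMod 3) ≠ 0 by decide]
    · simp [K.chi_two, show (2 : ZMod 3) ≠ 0 by decide, show (2 : ZMod 3) ≠ 1 by decide]
      linear_combination K.hw - (1 + K.w) * K.two
  rw [Matrix.trace_diagonal, Fin.sum_univ_four, h, h, h, h]
  simp only [cnt, Nat.cast_add]
  ring

theorem cast_mod (k : ℕ) : (k : F) = ((k % 2 : ℕ) : F) := by
  conv_lhs => rw [← Nat.div_add_mod k 2]
  rw [Nat.cast_add, Nat.cast_mul, Nat.cast_two, K.two, zero_mul, zero_add]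

theorem cast_inj {a b : ℕ} (h : (a : F) = (b : F)) : a % 2 = b % 2 := by
  rw [cast_mod K a, cast_mod K b] at h
  rcases Nat.mod_two_eq_zero_or_one a with e | e <;> rcases Nat.mod_two_eq_zero_or_one b with e' | e'
    <;> simp [e, e'] at h ⊢

theorem trace_conj {y x x' : Cfsg.SU 4 F 2} (h : y * x = x' * y) :
    (sm x).trace = (sm x').trace := by
  rw [show x' = y * x * y⁻¹ by rw [h, mul_inv_cancel_right], sm_mul, sm_mul,
    Matrix.trace_mul_cycle, ← sm_mul, inv_mul_cancel, sm_one, one_mul]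

omit K in
theorem par_coord {A : Ex} (h : Ok A) :
    (cnt A 0 + cnt A 2) % 2 = par A ∧ (cnt A 1 + cnt A 2) % 2 = 0 := by
  have hc : ∀ a b c d : ZMod 3, Ok ![a, b, c, d] →
      (cnt ![a, b, c, d] 0 + cnt ![a, b, c, d] 2) % 2 = par ![a, b, c, d] ∧
      (cnt ![a, b, c, d] 1 + cnt ![a, b, c, d] 2) % 2 = 0 := by decide +kernel
  exact eta4 A ▸ hc (A 0) (A 1) (A 2) (A 3) (eta4 A ▸ h)

theorem coord {a b a' b' : ℕ} (h : (a : F) + (b : F) * K.w = (a' : F) + (b' : F) * K.w) :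
    a % 2 = a' % 2 ∧ b % 2 = b' % 2 := by
  rw [cast_mod K a, cast_mod K b, cast_mod K a', cast_mod K b'] at h
  have h2 := K.two
  have n0 := K.w_ne_zero
  have n1 := K.w_ne_one
  rcases Nat.mod_two_eq_zero_or_one a with e1 | e1 <;>
    rcases Nat.mod_two_eq_zero_or_one b with e2 | e2 <;>
    rcases Nat.mod_two_eq_zero_or_one a' with e3 | e3 <;>
    rcases Nat.mod_two_eq_zero_or_one b' with e4 | e4 <;>
    simp [e1, e2, e3, e4] at h ⊢ <;> first
      | exact n0 h | exact n0 h.symm | exact n1 h | exact n1 h.symm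
      | exact n1 (by linear_combination h - h2)
      | exact n1 (by linear_combination -h - h2)

theorem ok_of {x x' y : Cfsg.SU 4 F 2} {A : Ex} (hx : sm x = dia K A) (hx' : x' = x * x)
    (hy : y * x = x' * y) : Ok A := by
  refine ⟨dia_sum K hx, ?_⟩
  have h := trace_conj K hy
  rw [hx', sm_mul, hx, dia_mul, trace_dia, trace_dia] at h
  have hc : ∀ a b c d : ZMod 3, cnt (![a, b, c, d] + ![a, b, c, d]) 0 = cnt ![a, b, c, d] 0 ∧
      cnt (![a, b, c, d] + ![a, b, c, d]) 1 = cnt ![a, b, c, d] 2 ∧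
      cnt (![a, b, c, d] + ![a, b, c, d]) 2 = cnt ![a, b, c, d] 1 := by decide +kernel
  have hA' := hc (A 0) (A 1) (A 2) (A 3)
  rw [← eta4 A] at hA'
  obtain ⟨c0, c1, c2⟩ := hA'
  rw [c0, c1, c2] at h
  refine (cast_inj K ?_).symm
  push_cast at h
  linear_combination h

theorem c_cube : K.c ^ 3 = 1 := by
  apply sm_ext
  rw [pow_succ, pow_two, sm_mul, sm_mul, sm_one, K.sm_c]
  have h := K.w_cube
  ext i j
  fin_cases i <;> fin_cases j <;> simp [Matrix.mul_apply, Fin.sum_univ_two] <;> grobner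

theorem rel_inv01 : e01 K.t * e01 K.c = (e01 K.c * e01 K.c) * e01 K.t := by
  apply sm_ext
  rw [sm_mul, sm_mul, sm_mul, K.sm_c01, K.sm_t01]
  have h := K.w_cube
  ext i j
  fin_cases i <;> fin_cases j <;> simp [Matrix.mul_apply, Fin.sum_univ_three] <;> grobner

theorem rel_inv12 : e12 K.t * e12 K.c = (e12 K.c * e12 K.c) * e12 K.t := by
  apply sm_ext
  rw [sm_mul, sm_mul, sm_mul, K.sm_c12, K.sm_t12]
  have h := K.w_cube
  ext i j
  fin_cases i <;> fin_cases j <;> simp [Matrix.mul_apply, Fin.sum_univ_three] <;> grobner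

theorem rel_01_12 : e01 K.t * e12 K.c = (e01 K.c * e12 K.c) * e01 K.t := by
  apply sm_ext
  rw [sm_mul, sm_mul, sm_mul, K.sm_c01, K.sm_c12, K.sm_t01]
  have h := K.w_cube
  ext i j
  fin_cases i <;> fin_cases j <;> simp [Matrix.mul_apply, Fin.sum_univ_three] <;> grobner

theorem rel_12_01 : e12 K.t * e01 K.c = (e01 K.c * e12 K.c) * e12 K.t := by
  apply sm_ext
  rw [sm_mul, sm_mul, sm_mul, K.sm_c01, K.sm_c12, K.sm_t12]
  have h := K.w_cube
  ext i j
  fin_cases i <;> fin_cases j <;> simp [Matrix.mul_apply, Fin.sum_univ_three] <;> grobner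

theorem rel_cyc : e01 K.t * e12 K.t * e01 K.c = e12 K.c * (e01 K.t * e12 K.t) := by
  apply sm_ext
  simp only [sm_mul, K.sm_c01, K.sm_c12, K.sm_t01, K.sm_t12]
  ext i j
  fin_cases i <;> fin_cases j <;> simp [Matrix.mul_apply, Fin.sum_univ_three]

theorem rel_cyc' : e12 K.t * e01 K.t * e01 K.c
    = (e01 K.c * e12 K.c * (e01 K.c * e12 K.c)) * (e12 K.t * e01 K.t) := by
  apply sm_ext
  simp only [sm_mul, K.sm_c01, K.sm_c12, K.sm_t01, K.sm_t12]
  have h := K.w_cube
  ext i j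
  fin_cases i <;> fin_cases j <;> simp [Matrix.mul_apply, Fin.sum_univ_three] <;> grobner

theorem rel_comm : e01 K.c * e12 K.c = e12 K.c * e01 K.c := by
  apply sm_ext
  rw [sm_mul, sm_mul, K.sm_c01, K.sm_c12, Matrix.diagonal_mul_diagonal,
    Matrix.diagonal_mul_diagonal]
  simp [mul_comm]

theorem pair_of (a : Cfsg.SU 3 F 2 →* Cfsg.SU 4 F 2) (hk : a.ker ≤ Subgroup.center _) {A B : Ex}
    (hA : sm (a (e01 K.c)) = dia K A) (hB : sm (a (e12 K.c)) = dia K B)
    (hne : a (e01 K.c) ≠ a (e12 K.c)) : Pair A B := by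
  have hcne : K.c ≠ 1 := fun e => by
    have h := congrArg (fun x => sm x 0 0) e
    simp [K.sm_c, sm_one] at h
    exact K.w_ne_one h
  have r1 := congrArg a (rel_inv01 K)
  have r2 := congrArg a (rel_inv12 K)
  have r3 := congrArg a (rel_cyc K)
  have r4 := congrArg a (rel_cyc' K)
  simp only [map_mul] at r1 r2 r3 r4
  have hAB : sm (a (e01 K.c) * a (e12 K.c) * (a (e01 K.c) * a (e12 K.c))) = dia K (-(A + B)) := by
    rw [sm_mul, sm_mul, hA, hB, dia_mul, dia_mul]
    congr 1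
    funext i
    have : ∀ x : ZMod 3, x + x = -x := by decide
    simp [this]
  have okA := ok_of K hA rfl r1
  have okB := ok_of K hB rfl r2
  have h13 := trace_conj K r3
  have h14 := trace_conj K r4
  rw [hA, hB] at h13
  rw [hA, hAB] at h14
  rw [trace_dia, trace_dia] at h13 h14
  have k3 := coord K h13
  have k4 := coord K h14
  obtain ⟨pA, qA⟩ := par_coord okA
  have okC : Ok (-(A + B)) := ⟨dia_sum K hAB, by omega⟩
  obtain ⟨pB, -⟩ := par_coord okB
  obtain ⟨pC, -⟩ := par_coord okC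
  refine ⟨fun e => ?_, fun e => ?_, fun e => hne (sm_ext (by rw [hA, hB, e])), fun e => ?_, okA, okB,
    okC, by omega, by omega⟩
  · exact hcne (e01_central K.hF le_rfl (hk (sm_ext (by rw [hA, e, dia_zero, sm_one]))))
  · exact hcne (e12_central K.hF le_rfl (hk (sm_ext (by rw [hB, e, dia_zero, sm_one]))))
  · have h1 : a (e01 K.c) * a (e12 K.c) = 1 := sm_ext (by
      rw [sm_mul, hA, hB, dia_mul, e, dia_zero, sm_one])
    rw [h1, mul_one, one_mul] at r4
    exact hcne (e01_central K.hF le_rfl (hk (mul_eq_left.mp r4)))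

theorem supp_rel {x x' T : Cfsg.SU 4 F 2} {A A' : Ex} (hx : sm x = dia K A) (hx' : sm x' = dia K A')
    (h : T * x = x' * T) {i j : Fin 4} (hij : sm T i j ≠ 0) : A j = A' i := by
  have e := congrFun (congrFun (congrArg sm h) i) j
  rw [sm_mul, sm_mul, hx, hx', Matrix.mul_diagonal, Matrix.diagonal_mul, mul_comm (sm T i j)] at e
  exact K.chi_inj (mul_right_cancel₀ hij e)

theorem exists_mono (π : Equiv.Perm (Fin 4)) (β : Fin 4 → F) (h : ∀ i, β i ≠ 0)
    (hp : ∏ i, β i = 1) :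
    ∃ M : Cfsg.SU 4 F 2, ∀ i j, sm M i j = if i = π j then β j else 0 := by
  obtain ⟨M, hM⟩ := exists_su K ((1 : Matrix (Fin 4) (Fin 4) F).submatrix id π * Matrix.diagonal β)
    (by
      rw [Matrix.det_mul, Matrix.det_permute', Matrix.det_diagonal, hp, Matrix.det_one, mul_one,
        mul_one]
      rcases Int.units_eq_one_or (Equiv.Perm.sign π) with e | e <;> simp [e, K.neg_eq])
    (by
      ext i j
      simp [Matrix.mul_apply, Matrix.one_apply, ite_mul, Matrix.diagonal_apply, π.injective.eq_iff]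
      by_cases e : i = j
      · subst e
        simp
        linear_combination K.pow_three (h i)
      · simp [e, Ne.symm e])
  exact ⟨M, fun i j => by rw [hM]; simp [Matrix.one_apply, Matrix.mul_diagonal]⟩

theorem conj_dia {π : Equiv.Perm (Fin 4)} {β : Fin 4 → F} {M x : Cfsg.SU 4 F 2}
    (hM : ∀ i j, sm M i j = if i = π j then β j else 0) {A : Ex} (hx : sm x = dia K A) :
    sm (M⁻¹ * x * M) = dia K (A ∘ π) := by
  have e : sm x * sm M = sm M * dia K (A ∘ π) := by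
    ext i j
    rw [hx, Matrix.diagonal_mul, Matrix.mul_diagonal, hM]
    split_ifs with h
    · rw [h, mul_comm]; rfl
    · rw [mul_zero, zero_mul]
  rw [sm_mul, sm_mul, Matrix.mul_assoc, e, ← Matrix.mul_assoc, ← sm_mul, inv_mul_cancel, sm_one,
    one_mul]

/-- Agreement with a block on generators. -/
theorem eq_block {f : Fin 3 → Fin 4} (hf : Function.Injective f)
    (hoff : ∀ l l' : Fin 4, l ∉ Set.range f → l' ∉ Set.range f → l = l')
    (a : Cfsg.SU 3 F 2 →* Cfsg.SU 4 F 2)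
    (h1 : a (e01 K.c) = emb hf (e01 K.c)) (h2 : a (e01 K.t) = emb hf (e01 K.t))
    (h3 : a (e12 K.c) = emb hf (e12 K.c)) (h4 : a (e12 K.t) = emb hf (e12 K.t)) :
    a = emb hf :=
  hom_eq K hf hoff a
    (fun x => K.su2_top (MonoidHom.eqLocus (a.comp e01) ((emb hf).comp e01)) h1 h2 x)
    (fun x => K.su2_top (MonoidHom.eqLocus (a.comp e12) ((emb hf).comp e12)) h3 h4 x)

theorem t_sq : K.t * K.t = 1 := by
  apply sm_ext
  rw [sm_mul, sm_one, K.sm_t]
  simp [Matrix.one_fin_two]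

theorem sq_one {x : F} (h : x * x = 1) : x = 1 := by
  have : (x - 1) ^ 2 = 0 := by linear_combination h + (1 - x) * K.two
  exact sub_eq_zero.mp (pow_eq_zero_iff (by norm_num) |>.mp this)

omit K in
theorem dia_apply (K : Four F) (A : Ex) (i : Fin 4) : dia K A i i = K.chi (A i) :=
  Matrix.diagonal_apply_eq _ _

omit K in
theorem diag_comm (d β : Fin 4 → F) (i j : Fin 4) :
    Matrix.diagonal d i j * β j = β i * Matrix.diagonal d i j := by
  by_cases h : i = j
  · subst h; rw [mul_comm]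
  · rw [Matrix.diagonal_apply_ne _ h, zero_mul, mul_zero]

theorem sm_std_c1 : sm (emb inj012 (e01 K.c)) = dia K ![1, 2, 0, 0] := by
  rw [sm_emb012, K.sm_c01]
  ext i j
  fin_cases i <;> fin_cases j <;> simp [K.chi_zero, K.chi_one, K.chi_two]

theorem sm_std_c2 : sm (emb inj012 (e12 K.c)) = dia K ![0, 1, 2, 0] := by
  rw [sm_emb012, K.sm_c12]
  ext i j
  fin_cases i <;> fin_cases j <;> simp [K.chi_zero, K.chi_one, K.chi_two]

theorem sm_std_c2' : sm (emb inj123 (e01 K.c)) = dia K ![0, 1, 2, 0] := by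
  rw [sm_emb123, K.sm_c01]
  ext i j
  fin_cases i <;> fin_cases j <;> simp [K.chi_zero, K.chi_one, K.chi_two]

theorem sm_std_c3 : sm (emb inj123 (e12 K.c)) = dia K ![0, 0, 1, 2] := by
  rw [sm_emb123, K.sm_c12]
  ext i j
  fin_cases i <;> fin_cases j <;> simp [K.chi_zero, K.chi_one, K.chi_two]

theorem sm_std_t1 : sm (emb inj012 (e01 K.t)) =
    !![0, 1, 0, 0; 1, 0, 0, 0; 0, 0, 1, 0; 0, 0, 0, 1] := by
  rw [sm_emb012, K.sm_t01]; simp

theorem sm_std_t2 : sm (emb inj012 (e12 K.t)) =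
    !![1, 0, 0, 0; 0, 0, 1, 0; 0, 1, 0, 0; 0, 0, 0, 1] := by
  rw [sm_emb012, K.sm_t12]; simp

theorem sm_std_t2' : sm (emb inj123 (e01 K.t)) =
    !![1, 0, 0, 0; 0, 0, 1, 0; 0, 1, 0, 0; 0, 0, 0, 1] := by
  rw [sm_emb123, K.sm_t01]; simp

theorem sm_std_t3 : sm (emb inj123 (e12 K.t)) =
    !![1, 0, 0, 0; 0, 1, 0, 0; 0, 0, 0, 1; 0, 0, 1, 0] := by
  rw [sm_emb123, K.sm_t12]; simp

omit K in
theorem conj01 {β : Fin 4 → F} {p : F} (h : β 1 = β 0 * p) (hp : p ^ 3 = 1) (i j : Fin 4) :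
    (!![0, p ^ 2, 0, 0; p, 0, 0, 0; 0, 0, 1, 0; 0, 0, 0, 1] : Matrix (Fin 4) (Fin 4) F) i j * β j =
      β i * (!![0, 1, 0, 0; 1, 0, 0, 0; 0, 0, 1, 0; 0, 0, 0, 1] : Matrix (Fin 4) (Fin 4) F) i j := by
  fin_cases i <;> fin_cases j <;> simp [h] <;> grobner

omit K in
theorem conj12 {β : Fin 4 → F} {p : F} (h : β 2 = β 1 * p) (hp : p ^ 3 = 1) (i j : Fin 4) :
    (!![1, 0, 0, 0; 0, 0, p ^ 2, 0; 0, p, 0, 0; 0, 0, 0, 1] : Matrix (Fin 4) (Fin 4) F) i j * β j =
      β i * (!![1, 0, 0, 0; 0, 0, 1, 0; 0, 1, 0, 0; 0, 0, 0, 1] : Matrix (Fin 4) (Fin 4) F) i j := by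
  fin_cases i <;> fin_cases j <;> simp [h] <;> grobner

omit K in
theorem conj23 {β : Fin 4 → F} {p : F} (h : β 3 = β 2 * p) (hp : p ^ 3 = 1) (i j : Fin 4) :
    (!![1, 0, 0, 0; 0, 1, 0, 0; 0, 0, 0, p ^ 2; 0, 0, p, 0] : Matrix (Fin 4) (Fin 4) F) i j * β j =
      β i * (!![1, 0, 0, 0; 0, 1, 0, 0; 0, 0, 0, 1; 0, 0, 1, 0] : Matrix (Fin 4) (Fin 4) F) i j := by
  fin_cases i <;> fin_cases j <;> simp [h] <;> grobner

/-- The standardised situation. -/
theorem exists_aut_std (a b : Cfsg.SU 3 F 2 →* Cfsg.SU 4 F 2) (hab : a.comp e12 = b.comp e01)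
    (hcomm : ∀ x y, Commute (a (e01 x)) (b (e12 y)))
    (hA : sm (a (e01 K.c)) = dia K ![1, 2, 0, 0]) (hB : sm (a (e12 K.c)) = dia K ![0, 1, 2, 0])
    (hC : sm (b (e12 K.c)) = dia K ![0, 0, 1, 2]) :
    ∃ Θ : Cfsg.SU 4 F 2 →* Cfsg.SU 4 F 2,
      a = Θ.comp (emb inj012) ∧ b = Θ.comp (emb inj123) := by
  have hb : ∀ x, a (e12 x) = b (e01 x) := DFunLike.congr_fun hab
  have hB' : sm (b (e01 K.c)) = dia K ![0, 1, 2, 0] := by rw [← hb]; exact hB
  have hsq : ∀ {x : Cfsg.SU 4 F 2} {A : Ex}, sm x = dia K A → sm (x * x) = dia K (A + A) :=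
    fun h => by rw [sm_mul, h, dia_mul]
  have hpr : ∀ {x y : Cfsg.SU 4 F 2} {A B : Ex}, sm x = dia K A → sm y = dia K B →
      sm (x * y) = dia K (A + B) := fun h h' => by rw [sm_mul, h, h', dia_mul]
  have inv2 : ∀ (φ : Cfsg.SU 2 F 2 →* Cfsg.SU 4 F 2) (i j : Fin 4),
      ∑ k, sm (φ K.t) i k * sm (φ K.t) k j = if i = j then 1 else 0 := fun φ i j => by
    rw [← Matrix.mul_apply, ← sm_mul, ← map_mul, t_sq K, map_one, sm_one, Matrix.one_apply]
  -- the first involution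
  have z1 : ∀ i j, sm (a (e01 K.t)) i j ≠ 0 → (![1, 2, 0, 0] : Ex) j = (![1, 2, 0, 0] + ![1, 2, 0, 0] : Ex) i ∧
      (![0, 1, 2, 0] : Ex) j = (![1, 2, 0, 0] + ![0, 1, 2, 0] : Ex) i ∧
      (![0, 0, 1, 2] : Ex) j = (![0, 0, 1, 2] : Ex) i := fun i j h =>
    ⟨supp_rel K hA (hsq hA) (by simpa only [map_mul] using congrArg a (rel_inv01 K)) h,
      supp_rel K hB (hpr hA hB) (by simpa only [map_mul] using congrArg a (rel_01_12 K)) h,
      supp_rel K hC hC (hcomm _ _).eq h⟩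
  have z2 : ∀ i j, sm (a (e12 K.t)) i j ≠ 0 → (![1, 2, 0, 0] : Ex) j = (![1, 2, 0, 0] + ![0, 1, 2, 0] : Ex) i ∧
      (![0, 1, 2, 0] : Ex) j = (![0, 1, 2, 0] + ![0, 1, 2, 0] : Ex) i ∧
      (![0, 0, 1, 2] : Ex) j = (![0, 1, 2, 0] + ![0, 0, 1, 2] : Ex) i := fun i j h =>
    ⟨supp_rel K hA (hpr hA hB) (by simpa only [map_mul] using congrArg a (rel_12_01 K)) h,
      supp_rel K hB (hsq hB) (by simpa only [map_mul] using congrArg a (rel_inv12 K)) h,
      supp_rel K hC (hpr hB' hC) (by rw [hb]; simpa only [map_mul] using congrArg b (rel_01_12 K)) h⟩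
  have z3 : ∀ i j, sm (b (e12 K.t)) i j ≠ 0 → (![1, 2, 0, 0] : Ex) j = (![1, 2, 0, 0] : Ex) i ∧
      (![0, 1, 2, 0] : Ex) j = (![0, 1, 2, 0] + ![0, 0, 1, 2] : Ex) i ∧
      (![0, 0, 1, 2] : Ex) j = (![0, 0, 1, 2] + ![0, 0, 1, 2] : Ex) i := fun i j h =>
    ⟨supp_rel K hA hA (hcomm _ _).eq.symm h,
      supp_rel K hB' (hpr hB' hC) (by simpa only [map_mul] using congrArg b (rel_12_01 K)) h,
      supp_rel K hC (hsq hC) (by simpa only [map_mul] using congrArg b (rel_inv12 K)) h⟩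
  set T1 := sm (a (e01 K.t)) with hT1
  set T2 := sm (a (e12 K.t)) with hT2
  set T3 := sm (b (e12 K.t)) with hT3
  have n1 : ∀ i j, i ≠ j → ¬ ((i = 0 ∧ j = 1) ∨ (i = 1 ∧ j = 0)) → T1 i j = 0 := by
    intro i j h1 h2
    by_contra h
    have := z1 i j h
    clear h
    revert this h1 h2
    revert i j
    decide
  have n2 : ∀ i j, i ≠ j → ¬ ((i = 1 ∧ j = 2) ∨ (i = 2 ∧ j = 1)) → T2 i j = 0 := by
    intro i j h1 h2
    by_contra h
    have := z2 i j h
    clear h
    revert this h1 h2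
    revert i j
    decide
  have n3 : ∀ i j, i ≠ j → ¬ ((i = 2 ∧ j = 3) ∨ (i = 3 ∧ j = 2)) → T3 i j = 0 := by
    intro i j h1 h2
    by_contra h
    have := z3 i j h
    clear h
    revert this h1 h2
    revert i j
    decide
  have d1 : T1 0 0 = 0 ∧ T1 1 1 = 0 := by
    constructor <;> by_contra h <;> exact absurd (z1 _ _ h) (by decide)
  have d2 : T2 1 1 = 0 ∧ T2 2 2 = 0 := by
    constructor <;> by_contra h <;> exact absurd (z2 _ _ h) (by decide)
  have d3 : T3 2 2 = 0 ∧ T3 3 3 = 0 := by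
    constructor <;> by_contra h <;> exact absurd (z3 _ _ h) (by decide)
  have i1 : ∀ i j, ∑ k, T1 i k * T1 k j = if i = j then (1 : F) else 0 := inv2 (a.comp e01)
  have i2 : ∀ i j, ∑ k, T2 i k * T2 k j = if i = j then (1 : F) else 0 := inv2 (a.comp e12)
  have i3 : ∀ i j, ∑ k, T3 i k * T3 k j = if i = j then (1 : F) else 0 := inv2 (b.comp e12)
  have r1 : T1 0 1 * T1 1 0 = 1 ∧ T1 2 2 = 1 ∧ T1 3 3 = 1 := by
    refine ⟨?_, sq_one K ?_, sq_one K ?_⟩
    · simpa [Fin.sum_univ_four, d1, n1] using i1 0 0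
    · simpa [Fin.sum_univ_four, d1, n1] using i1 2 2
    · simpa [Fin.sum_univ_four, d1, n1] using i1 3 3
  have r2 : T2 1 2 * T2 2 1 = 1 ∧ T2 0 0 = 1 ∧ T2 3 3 = 1 := by
    refine ⟨?_, sq_one K ?_, sq_one K ?_⟩
    · simpa [Fin.sum_univ_four, d2, n2] using i2 1 1
    · simpa [Fin.sum_univ_four, d2, n2] using i2 0 0
    · simpa [Fin.sum_univ_four, d2, n2] using i2 3 3
  have r3 : T3 2 3 * T3 3 2 = 1 ∧ T3 0 0 = 1 ∧ T3 1 1 = 1 := by
    refine ⟨?_, sq_one K ?_, sq_one K ?_⟩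
    · simpa [Fin.sum_univ_four, d3, n3] using i3 2 2
    · simpa [Fin.sum_univ_four, d3, n3] using i3 0 0
    · simpa [Fin.sum_univ_four, d3, n3] using i3 1 1
  set p := T1 1 0
  set r := T2 2 1
  set s := T3 3 2
  have hp : p ≠ 0 := fun e => by simpa [e] using r1.1
  have hr : r ≠ 0 := fun e => by simpa [e] using r2.1
  have hs : s ≠ 0 := fun e => by simpa [e] using r3.1
  set γ := p * (p * r) * (p * r * s) with hγ
  have hγ0 : γ ≠ 0 := mul_ne_zero (mul_ne_zero hp (mul_ne_zero hp hr))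
    (mul_ne_zero (mul_ne_zero hp hr) hs)
  set β : Fin 4 → F := ![γ ^ 2, γ ^ 2 * p, γ ^ 2 * (p * r), γ ^ 2 * (p * r * s)] with hβ
  have hβ0 : ∀ i, β i ≠ 0 := fun i => by
    fin_cases i <;> simp [hβ, hp, hr, hs, hγ0]
  have hβp : ∏ i, β i = 1 := by
    rw [Fin.prod_univ_four]
    simp [hβ]
    have h3 := K.pow_three hγ0
    rw [hγ] at h3 ⊢
    grobner
  obtain ⟨M, hM⟩ := exists_mono K 1 β hβ0 hβp
  have hp3 := K.pow_three hp
  have hr3 := K.pow_three hr
  have hs3 := K.pow_three hs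
  have q1 : T1 0 1 = p ^ 2 := mul_right_cancel₀ hp (r1.1.trans (by rw [← pow_succ, hp3]))
  have q2 : T2 1 2 = r ^ 2 := mul_right_cancel₀ hr (r2.1.trans (by rw [← pow_succ, hr3]))
  have q3 : T3 2 3 = s ^ 2 := mul_right_cancel₀ hs (r3.1.trans (by rw [← pow_succ, hs3]))
  have eT1 : T1 = !![0, p ^ 2, 0, 0; p, 0, 0, 0; 0, 0, 1, 0; 0, 0, 0, 1] := by
    ext i j
    fin_cases i <;> fin_cases j <;> first
      | exact n1 _ _ (by decide) (by decide)
      | exact d1.1 | exact d1.2 | exact q1 | exact r1.2.1 | exact r1.2.2 | rfl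
  have eT2 : T2 = !![1, 0, 0, 0; 0, 0, r ^ 2, 0; 0, r, 0, 0; 0, 0, 0, 1] := by
    ext i j
    fin_cases i <;> fin_cases j <;> first
      | exact n2 _ _ (by decide) (by decide)
      | exact d2.1 | exact d2.2 | exact q2 | exact r2.2.1 | exact r2.2.2 | rfl
  have eT3 : T3 = !![1, 0, 0, 0; 0, 1, 0, 0; 0, 0, 0, s ^ 2; 0, 0, s, 0] := by
    ext i j
    fin_cases i <;> fin_cases j <;> first
      | exact n3 _ _ (by decide) (by decide)
      | exact d3.1 | exact d3.2 | exact q3 | exact r3.2.1 | exact r3.2.2 | rfl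
  have cj : ∀ (x y : Cfsg.SU 4 F 2), (∀ i j, sm x i j * β j = β i * sm y i j) → M⁻¹ * x * M = y := by
    intro x y h
    rw [mul_assoc, inv_mul_eq_iff_eq_mul]
    apply sm_ext
    rw [sm_mul, sm_mul]
    ext i j
    rw [Matrix.mul_apply, Matrix.mul_apply, Finset.sum_eq_single j, Finset.sum_eq_single i]
    · rw [hM, hM, if_pos (Equiv.Perm.one_apply j).symm, if_pos (Equiv.Perm.one_apply i).symm]
      exact h i j
    · intro l _ hl
      rw [hM, if_neg (fun e => hl ?_), zero_mul]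
      rw [e, Equiv.Perm.one_apply]
    · simp
    · intro l _ hl
      rw [hM, if_neg (fun e => hl ?_), mul_zero]
      rw [e, Equiv.Perm.one_apply]
    · simp
  let Θ : MulAut (Cfsg.SU 4 F 2) := MulAut.conj M
  have hc : ∀ x, Θ.symm x = M⁻¹ * x * M := fun x => rfl
  have bd : β 1 = β 0 * p ∧ β 2 = β 1 * r ∧ β 3 = β 2 * s := by
    simp [hβ, mul_assoc]
  have h01 : Θ.symm.toMonoidHom.comp a = emb inj012 := by
    refine eq_block K inj012 (fun l l' => off012) _ ?_ ?_ ?_ ?_ <;>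
      refine (hc _).trans (cj _ _ fun i j => ?_)
    · rw [hA, sm_std_c1]; exact diag_comm _ _ _ _
    · rw [← hT1, eT1, sm_std_t1]; exact conj01 bd.1 hp3 i j
    · rw [hB, sm_std_c2]; exact diag_comm _ _ _ _
    · rw [← hT2, eT2, sm_std_t2]; exact conj12 bd.2.1 hr3 i j
  have h12 : Θ.symm.toMonoidHom.comp b = emb inj123 := by
    refine eq_block K inj123 (fun l l' => off123) _ ?_ ?_ ?_ ?_ <;>
      refine (hc _).trans (cj _ _ fun i j => ?_)
    · rw [hB', sm_std_c2']; exact diag_comm _ _ _ _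
    · rw [← hb, ← hT2, eT2, sm_std_t2']; exact conj12 bd.2.1 hr3 i j
    · rw [hC, sm_std_c3]; exact diag_comm _ _ _ _
    · rw [← hT3, eT3, sm_std_t3]; exact conj23 bd.2.2 hs3 i j
  exact ⟨Θ.toMonoidHom, MonoidHom.ext fun x => by
      rw [← h01]; exact (Θ.apply_symm_apply _).symm, MonoidHom.ext fun x => by
      rw [← h12]; exact (Θ.apply_symm_apply _).symm⟩

omit K in
theorem exists_frobEquiv (hF : SqField F 2) : ∃ σ : F ≃+* F, ∀ x, σ x = x ^ 2 := by
  obtain ⟨σ, hσ⟩ := exists_frob hF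
  exact ⟨RingEquiv.ofBijective σ
    ⟨σ.injective, fun x => ⟨x ^ 2, by rw [hσ, hF.pow_pow]⟩⟩, hσ⟩

/-- The entrywise Frobenius map. -/
def fr (m : ℕ) : Cfsg.SU m F 2 →* Cfsg.SU m F 2 :=
  twist K.hF (fun _ => (1 : F)) (fun _ => by simp) (Classical.choose (exists_frobEquiv K.hF))

theorem sm_fr {m : ℕ} (x : Cfsg.SU m F 2) (i j : Fin m) : sm (fr K m x) i j = sm x i j ^ 2 := by
  rw [fr, sm_twist, Classical.choose_spec (exists_frobEquiv K.hF)]
  simp

theorem fr_fr {m : ℕ} (x : Cfsg.SU m F 2) : fr K m (fr K m x) = x :=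
  sm_ext (Matrix.ext fun i j => by rw [sm_fr, sm_fr, K.hF.pow_pow])

theorem fr_emb {k m : ℕ} {f : Fin k → Fin m} (hf : Function.Injective f) (x : Cfsg.SU k F 2) :
    fr K m (emb hf x) = emb hf (fr K k x) := by
  refine sm_ext (Matrix.ext fun l l' => ?_)
  rw [sm_fr]
  by_cases hr : l ∈ Set.range f ∧ l' ∈ Set.range f
  · obtain ⟨⟨i, rfl⟩, j, rfl⟩ := hr
    rw [sm_emb, bmat_block, sm_emb, bmat_block, sm_fr]
  · rw [not_and_or] at hr
    rw [emb_off hf x hr, emb_off hf _ hr]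
    by_cases e : l = l' <;> simp [Matrix.one_apply, e]

theorem fr_c : fr K 2 K.c = K.c * K.c := by
  refine sm_ext (Matrix.ext fun i j => ?_)
  rw [sm_fr, sm_mul, K.sm_c]
  fin_cases i <;> fin_cases j <;> simp [Matrix.mul_apply, Fin.sum_univ_two] <;> ring

/-- Diagonal situation. -/
theorem exists_aut_dia (a b : Cfsg.SU 3 F 2 →* Cfsg.SU 4 F 2) (hab : a.comp e12 = b.comp e01)
    (hcomm : ∀ x y, Commute (a (e01 x)) (b (e12 y)))
    (hka : a.ker ≤ Subgroup.center _) (hkb : b.ker ≤ Subgroup.center _)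
    (hna : a (e01 K.c) ≠ a (e12 K.c)) (hnb : b (e01 K.c) ≠ b (e12 K.c))
    {A B C : Ex} (hA : sm (a (e01 K.c)) = dia K A) (hB : sm (a (e12 K.c)) = dia K B)
    (hC : sm (b (e12 K.c)) = dia K C) :
    ∃ Θ : Cfsg.SU 4 F 2 →* Cfsg.SU 4 F 2,
      a = Θ.comp (emb inj012) ∧ b = Θ.comp (emb inj123) := by
  have hb : ∀ x, a (e12 x) = b (e01 x) := DFunLike.congr_fun hab
  have p1 := pair_of K a hka hA hB hna
  have p2 := pair_of K b hkb (by rw [← hb]; exact hB) hC hnb
  obtain ⟨π, ε, hε, eA, eB, eC⟩ := normal_form p1 p2 fun i j hu => by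
    obtain ⟨k, hk⟩ : ∃ k, sm (a (e01 K.t)) i k ≠ 0 := by
      by_contra h
      push Not at h
      have h1 : (sm (a (e01 K.t))).det = 1 := (a (e01 K.t)).1.2
      rw [Matrix.det_eq_zero_of_row_eq_zero i h] at h1
      exact zero_ne_one h1
    have h1 := supp_rel K hA (x' := a (e01 K.c) * a (e01 K.c)) (A' := A + A)
      (by rw [sm_mul, hA, dia_mul]) (by simpa only [map_mul] using congrArg a (rel_inv01 K)) hk
    have h2 := supp_rel K hC hC (hcomm _ _).eq hk
    have hz : ∀ x y : ZMod 3, y = x + x → x + y = 0 := by decide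
    rw [← hu k (hz _ _ h1)]
    exact h2.symm
  obtain ⟨P, hP⟩ := exists_mono K π (fun _ => 1) (fun _ => one_ne_zero) (by simp)
  set Θ0 : MulAut (Cfsg.SU 4 F 2) := MulAut.conj P with hΘ0
  set a' := Θ0.symm.toMonoidHom.comp a with ha'
  set b' := Θ0.symm.toMonoidHom.comp b with hb'
  have eA' : sm (a' (e01 K.c)) = dia K ![ε, -ε, 0, 0] := eA ▸ conj_dia K hP hA
  have eB' : sm (a' (e12 K.c)) = dia K ![0, ε, -ε, 0] := eB ▸ conj_dia K hP hB
  have eC' : sm (b' (e12 K.c)) = dia K ![0, 0, ε, -ε] := eC ▸ conj_dia K hP hC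
  have hab' : a'.comp e12 = b'.comp e01 := by rw [ha', hb', MonoidHom.comp_assoc, hab]; rfl
  have hcomm' : ∀ x y, Commute (a' (e01 x)) (b' (e12 y)) := fun x y =>
    (hcomm x y).map Θ0.symm.toMonoidHom
  suffices h : ∃ Θ : Cfsg.SU 4 F 2 →* Cfsg.SU 4 F 2,
      a' = Θ.comp (emb inj012) ∧ b' = Θ.comp (emb inj123) by
    obtain ⟨Θ, h1, h2⟩ := h
    exact ⟨Θ0.toMonoidHom.comp Θ, MonoidHom.ext fun x => by
        show a x = Θ0 (Θ.comp (emb inj012) x)
        rw [← h1]; exact (Θ0.apply_symm_apply _).symm, MonoidHom.ext fun x => by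
        show b x = Θ0 (Θ.comp (emb inj123) x)
        rw [← h2]; exact (Θ0.apply_symm_apply _).symm⟩
  have hε' : ε = 1 ∨ ε = -1 := by
    clear eA eB eC eA' eB' eC'
    revert hε
    revert ε
    decide
  rcases hε' with rfl | rfl
  · exact exists_aut_std K a' b' hab' hcomm' (eA'.trans (by congr 1)) (eB'.trans (by congr 1))
      (eC'.trans (by congr 1))
  · have hF01 : ∀ x : Cfsg.SU 2 F 2, fr K 3 (e01 x) = e01 (fr K 2 x) := fr_emb K injective01
    have hF12 : ∀ x : Cfsg.SU 2 F 2, fr K 3 (e12 x) = e12 (fr K 2 x) := fr_emb K injective12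
    obtain ⟨Θ, h1, h2⟩ := exists_aut_std K (a'.comp (fr K 3)) (b'.comp (fr K 3))
      (MonoidHom.ext fun x => by
        show a' (fr K 3 (e12 x)) = b' (fr K 3 (e01 x))
        rw [hF01, hF12]; exact DFunLike.congr_fun hab' _)
      (fun x y => by
        show Commute (a' (fr K 3 (e01 x))) (b' (fr K 3 (e12 y)))
        rw [hF01, hF12]; exact hcomm' _ _)
      (by
        show sm (a' (fr K 3 (e01 K.c))) = _
        rw [hF01, fr_c, map_mul, map_mul, sm_mul, eA', dia_mul]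
        congr 1; decide)
      (by
        show sm (a' (fr K 3 (e12 K.c))) = _
        rw [hF12, fr_c, map_mul, map_mul, sm_mul, eB', dia_mul]
        congr 1; decide)
      (by
        show sm (b' (fr K 3 (e12 K.c))) = _
        rw [hF12, fr_c, map_mul, map_mul, sm_mul, eC', dia_mul]
        congr 1; decide)
    refine ⟨Θ.comp (fr K 4), MonoidHom.ext fun x => ?_, MonoidHom.ext fun x => ?_⟩
    · have := DFunLike.congr_fun h1 (fr K 3 x)
      simp only [MonoidHom.comp_apply, fr_fr] at this ⊢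
      rw [this, fr_emb]
    · have := DFunLike.congr_fun h2 (fr K 3 x)
      simp only [MonoidHom.comp_apply, fr_fr] at this ⊢
      rw [this, fr_emb]

/-- The general situation inside the four-dimensional group. -/
theorem exists_aut (a b : Cfsg.SU 3 F 2 →* Cfsg.SU 4 F 2) (hab : a.comp e12 = b.comp e01)
    (hcomm : ∀ x y, Commute (a (e01 x)) (b (e12 y)))
    (hka : a.ker ≤ Subgroup.center _) (hkb : b.ker ≤ Subgroup.center _) :
    ∃ Θ : Cfsg.SU 4 F 2 →* Cfsg.SU 4 F 2,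
      a = Θ.comp (emb inj012) ∧ b = Θ.comp (emb inj123) := by
  have hb : ∀ x, a (e12 x) = b (e01 x) := DFunLike.congr_fun hab
  have hc3 : K.c * K.c * K.c = 1 := by rw [← c_cube K, pow_succ, pow_two]
  have hna : a (e01 K.c) ≠ a (e12 K.c) := fun h => by
    have hc' : Commute (b (e01 K.c)) (b (e12 K.t)) := by rw [← hb, ← h]; exact hcomm _ _
    have hz : e01 K.c * e01 K.c * (e12 K.t * e01 K.c * e12 K.t) ∈ b.ker := by
      rw [MonoidHom.mem_ker]
      simp only [map_mul]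
      rw [← hc'.eq, mul_assoc (b (e01 K.c)) (b (e12 K.t)), ← map_mul (f := b) (e12 K.t),
        ← map_mul e12, t_sq K, map_one, map_one, mul_one, ← map_mul, ← map_mul, ← map_mul, ← map_mul,
        hc3, map_one, map_one]
    have e := congrArg (fun x => sm x 1 2) (Subgroup.mem_center_iff.mp (hkb hz) (e12 K.t))
    simp only [sm_mul, Matrix.mul_apply, Fin.sum_univ_three, K.sm_c01, K.sm_t12] at e
    simp at e
    have := K.w_cube
    have := K.hw
    have := K.two
    have := K.w_ne_one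
    grobner
  have hnb : b (e01 K.c) ≠ b (e12 K.c) := fun h => by
    have hc' : Commute (a (e12 K.c)) (a (e01 K.t)) := by rw [hb, h]; exact (hcomm _ _).symm
    have hz : e12 K.c * e12 K.c * (e01 K.t * e12 K.c * e01 K.t) ∈ a.ker := by
      rw [MonoidHom.mem_ker]
      simp only [map_mul]
      rw [← hc'.eq, mul_assoc (a (e12 K.c)) (a (e01 K.t)), ← map_mul (f := a) (e01 K.t),
        ← map_mul e01, t_sq K, map_one, map_one, mul_one, ← map_mul, ← map_mul, ← map_mul, ← map_mul,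
        hc3, map_one, map_one]
    have e := congrArg (fun x => sm x 0 1) (Subgroup.mem_center_iff.mp (hka hz) (e01 K.t))
    simp only [sm_mul, Matrix.mul_apply, Fin.sum_univ_three, K.sm_c12, K.sm_t01] at e
    simp at e
    have := K.w_cube
    have := K.hw
    have := K.two
    have := K.w_ne_one
    grobner
  obtain ⟨g, hg⟩ := exists_diag K
    (fun i => suEquiv 4 F 2 (![a (e01 K.c), a (e12 K.c), b (e12 K.c)] i))
    (fun i => by
      rw [← map_pow]
      fin_cases i <;> simp [← map_pow, c_cube])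
    (fun i j => by
      have h12 : a (e01 K.c) * a (e12 K.c) = a (e12 K.c) * a (e01 K.c) := by
        rw [← map_mul, rel_comm, map_mul]
      have h23 : a (e12 K.c) * b (e12 K.c) = b (e12 K.c) * a (e12 K.c) := by
        rw [hb, ← map_mul, rel_comm, map_mul]
      have h13 := (hcomm K.c K.c).eq
      rw [← map_mul, ← map_mul]
      congr 1
      fin_cases i <;> fin_cases j <;> simp [h12, h23, h13])
  obtain ⟨g, rfl⟩ := (suEquiv 4 F 2).surjective g
  have hdia : ∀ i, ∃ A, sm (g⁻¹ * ![a (e01 K.c), a (e12 K.c), b (e12 K.c)] i * g) = dia K A :=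
    fun i => exists_dia K _ fun l l' hne => by
      obtain ⟨c, hc⟩ := hg i l'
      rw [← map_inv, ← map_mul, ← map_mul, app_suEquiv] at hc
      have h := congrFun hc l
      rw [dd, Matrix.mulVec_single_one, Matrix.col_apply, Pi.smul_apply, Pi.single_apply, if_neg hne,
        smul_zero] at h
      exact h
  obtain ⟨A, hA⟩ := hdia 0
  obtain ⟨B, hB⟩ := hdia 1
  obtain ⟨C, hC⟩ := hdia 2
  set Θ0 : MulAut (Cfsg.SU 4 F 2) := MulAut.conj g with hΘ0
  have hker : ∀ φ : Cfsg.SU 3 F 2 →* Cfsg.SU 4 F 2,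
      (Θ0.symm.toMonoidHom.comp φ).ker = φ.ker := fun φ =>
    Subgroup.ext fun x => by simp [MonoidHom.mem_ker]
  obtain ⟨Θ, h1, h2⟩ := exists_aut_dia K (Θ0.symm.toMonoidHom.comp a) (Θ0.symm.toMonoidHom.comp b)
    (by rw [MonoidHom.comp_assoc, hab]; rfl)
    (fun x y => (hcomm x y).map Θ0.symm.toMonoidHom) ((hker a).trans_le hka) ((hker b).trans_le hkb)
    (fun h => hna (Θ0.symm.injective h)) (fun h => hnb (Θ0.symm.injective h)) hA hB hC
  exact ⟨Θ0.toMonoidHom.comp Θ, MonoidHom.ext fun x => by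
      show a x = Θ0 (Θ.comp (emb inj012) x)
      rw [← h1]; exact (Θ0.apply_symm_apply _).symm, MonoidHom.ext fun x => by
      show b x = Θ0 (Θ.comp (emb inj123) x)
      rw [← h2]; exact (Θ0.apply_symm_apply _).symm⟩

theorem isSimpleGroup_SU4 : IsSimpleGroup (Cfsg.SU 4 F 2) := by
  have h := isSimpleGroup_PSU K.hF (n := 4) (by norm_num) (by norm_num)
  have hc : Subgroup.center (Cfsg.SU 4 F 2) = ⊥ := by
    rw [← Subgroup.card_eq_one, card_center_SU K.hF (by norm_num)]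
    rfl
  let e : Cfsg.PSU 4 F 2 ≃* Cfsg.SU 4 F 2 :=
    (QuotientGroup.quotientMulEquivOfEq hc).trans QuotientGroup.quotientBot
  have := e.symm.toEquiv.nontrivial
  exact IsSimpleGroup.isSimpleGroup_of_surjective e.toMonoidHom e.surjective

/-- Two consecutive pairs extend to the four-dimensional group. -/
theorem exists_quad {G : Type v} [Group G] (ψ ψ' : Cfsg.SU 3 F 2 →* G)
    (hk : ψ.ker ≤ Subgroup.center _) (hk' : ψ'.ker ≤ Subgroup.center _)
    (hab : ψ.comp e12 = ψ'.comp e01) (hcomm : ∀ x y, Commute (ψ (e01 x)) (ψ' (e12 y)))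
    (g : Cfsg.SU 4 F 2 →* G) (hr : ψ.range ≤ g.range) (hr' : ψ'.range ≤ g.range) :
    ∃ Φ : Cfsg.SU 4 F 2 →* G, Φ.comp (emb inj012) = ψ ∧ Φ.comp (emb inj123) = ψ' := by
  have hg : Function.Injective g := by
    have := isSimpleGroup_SU4 K
    rw [← MonoidHom.ker_eq_bot_iff]
    refine ((MonoidHom.normal_ker g).eq_bot_or_eq_top).resolve_right fun h => ?_
    have h1 : ψ (e01 K.c) = 1 := by
      obtain ⟨y, hy⟩ := hr ⟨e01 K.c, rfl⟩
      rw [← hy]
      exact (h ▸ Subgroup.mem_top y : y ∈ g.ker)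
    have h2 := congrArg (fun x => sm x 0 0) (e01_central K.hF le_rfl (hk h1))
    simp [K.sm_c, sm_one] at h2
    exact K.w_ne_one h2
  let gi : g.range →* Cfsg.SU 4 F 2 := (MonoidHom.ofInjective hg).symm.toMonoidHom
  have hgi : ∀ (φ : Cfsg.SU 3 F 2 →* G) (hφ : ∀ x, φ x ∈ g.range) (x : Cfsg.SU 3 F 2),
      g (gi (φ.codRestrict g.range hφ x)) = φ x := fun φ hφ x =>
    congrArg Subtype.val ((MonoidHom.ofInjective hg).apply_symm_apply (φ.codRestrict g.range hφ x))
  let a := gi.comp (ψ.codRestrict g.range fun x => hr ⟨x, rfl⟩)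
  let b := gi.comp (ψ'.codRestrict g.range fun x => hr' ⟨x, rfl⟩)
  have ha : ∀ x, g (a x) = ψ x := hgi ψ _
  have hb : ∀ x, g (b x) = ψ' x := hgi ψ' _
  obtain ⟨Θ, h1, h2⟩ := exists_aut K a b
    (MonoidHom.ext fun x => hg
      ((ha _).trans ((DFunLike.congr_fun hab x).trans (hb _).symm)))
    (fun x y => hg (by rw [map_mul, map_mul, ha, hb]; exact (hcomm x y).eq))
    (fun x hx => hk (by
      rw [MonoidHom.mem_ker, ← ha, MonoidHom.mem_ker.mp hx, map_one]))
    (fun x hx => hk' (by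
      rw [MonoidHom.mem_ker, ← hb, MonoidHom.mem_ker.mp hx, map_one]))
  exact ⟨g.comp Θ, MonoidHom.ext fun x => by rw [← ha x, h1]; rfl,
    MonoidHom.ext fun x => by rw [← hb x, h2]; rfl⟩

end

end Cfsg.Agent.PhanSU.Two
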