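import Cfsg.Agent.PhanSU.Build
import Cfsg.Agent.PhanSU.Two.Cover
import Cfsg.Agent.PhanSU.Two.Quad

/-!
Weak Phan systems over the field with four elements.
-/

set_option autoImplicit false
set_option linter.style.haveILetI false

open scoped Classical

namespace Cfsg.Agent.PhanSU.Two

open Cfsg.Agent.Classical.U

universe u v

noncomputable section

variable {F : Type u} [Field F] {n : ℕ} {G : Type v} [Group G]

/-- An aligned family with its far commutations and the four-dimensional extensions. -/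
structure Aligned (F : Type u) [Field F] (n : ℕ) (G : Type v) [Group G] where
  hF : SqField F 2
  four_le : 4 ≤ n
  φ : ℕ → (Cfsg.SU 2 F 2 →* G)
  ψ : ℕ → (Cfsg.SU 3 F 2 →* G)
  h01 : ∀ i, i + 1 < n → (ψ i).comp e01 = φ i
  h12 : ∀ i, i + 1 < n → (ψ i).comp e12 = φ (i + 1)
  farUU : ∀ i j, i + 2 ≤ j → j < n → ∀ x y, Commute (φ i x) (φ j y)
  farUP : ∀ i j, i + 2 ≤ j → j + 1 < n → ∀ x y, Commute (φ i x) (ψ j y)
  farPU : ∀ i j, i + 3 ≤ j → j < n → ∀ x y, Commute (ψ i x) (φ j y)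
  farPP : ∀ i j, i + 3 ≤ j → j + 1 < n → ∀ x y, Commute (ψ i x) (ψ j y)
  quad : ∀ i, i + 2 < n → ∃ Φ : Cfsg.SU 4 F 2 →* G,
    Φ.comp (emb inj012) = ψ i ∧ Φ.comp (emb inj123) = ψ (i + 1)

namespace Aligned

variable (A : Aligned F n G)

/-- The lifts of the blocks. -/
def gu (i : ℕ) : Subgroup (G × Sug (n + 1) F 2) :=
  if h : i < n then
    ((A.φ i).prod (embS (seg_injective (k := 2) (n := n) (i := i) (by omega)))).range
  else ⊥

/-- The lifts of the pairs. -/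
def gp (i : ℕ) : Subgroup (G × Sug (n + 1) F 2) :=
  if h : i + 1 < n then
    ((A.ψ i).prod (embS (seg_injective (k := 3) (n := n) (i := i) (by omega)))).range
  else ⊥

theorem mem_gu {i : ℕ} (hi : i < n) {x : G × Sug (n + 1) F 2} :
    x ∈ A.gu i ↔ ∃ a, (A.φ i a, embS (seg_injective (k := 2) (n := n) (i := i) (by omega)) a) = x := by
  rw [gu, dif_pos hi]
  exact Iff.rfl

theorem mem_gp {i : ℕ} (hi : i + 1 < n) {x : G × Sug (n + 1) F 2} :
    x ∈ A.gp i ↔ ∃ a, (A.ψ i a, embS (seg_injective (k := 3) (n := n) (i := i) (by omega)) a) = x := by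
  rw [gp, dif_pos hi]
  exact Iff.rfl

theorem image_seg_three {i : ℕ} (h : i + 3 ≤ n + 1) :
    Finset.univ.image (seg (n := n) i h) = tripT n i := by
  ext l
  simp only [Finset.mem_image, Finset.mem_univ, true_and, tripT, Finset.mem_filter, seg]
  constructor
  · rintro ⟨j, rfl⟩
    show i ≤ i + (j : ℕ) ∧ i + (j : ℕ) ≤ i + 2
    omega
  · rintro ⟨h1, h2⟩
    refine ⟨⟨(l : ℕ) - i, by omega⟩, Fin.ext ?_⟩
    show i + ((l : ℕ) - i) = l
    omega

theorem gu_snd {i : ℕ} (hi : i < n) {x : G × Sug (n + 1) F 2} (hx : x ∈ A.gu i) :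
    x.2 ∈ fixT (pairT n i) := by
  obtain ⟨a, rfl⟩ := (A.mem_gu hi).1 hx
  rw [← image_seg_two (i := i) (by omega), ← range_embS (seg_injective _) A.hF]
  exact ⟨a, rfl⟩

theorem gp_snd {i : ℕ} (hi : i + 1 < n) {x : G × Sug (n + 1) F 2} (hx : x ∈ A.gp i) :
    x.2 ∈ fixT (tripT n i) := by
  obtain ⟨a, rfl⟩ := (A.mem_gp hi).1 hx
  rw [← image_seg_three (i := i) (by omega), ← range_embS (seg_injective _) A.hF]
  exact ⟨a, rfl⟩

theorem quad_trip {i : ℕ} (h : i + 4 ≤ n + 1) (x : Cfsg.SU 3 F 2) :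
    embS (seg_injective h) (emb inj012 x)
      = embS (seg_injective (k := 3) (n := n) (i := i) (by omega)) x ∧
    embS (seg_injective h) (emb inj123 x)
      = embS (seg_injective (k := 3) (n := n) (i := i + 1) (by omega)) x := by
  constructor
  · show suEquiv _ _ _ (emb _ (emb _ x)) = suEquiv _ _ _ (emb _ x)
    rw [emb_comp, emb_congr _ (seg_injective (n := n) (i := i) (k := 3) (by omega))
      (funext fun j => Fin.ext (by fin_cases j <;> simp [seg, s012]))]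
  · show suEquiv _ _ _ (emb _ (emb _ x)) = suEquiv _ _ _ (emb _ x)
    rw [emb_comp, emb_congr _ (seg_injective (n := n) (i := i + 1) (k := 3) (by omega))
      (funext fun j => Fin.ext (by fin_cases j <;> simp [seg, s123] <;> omega))]

/-- The data of the induction. -/
def data : Data F 2 n G where
  hF := A.hF
  hq := rfl
  four_le := A.four_le
  GU := A.gu
  GP := A.gp
  GU_mem i hi x hx := A.gu_snd hi hx
  GU_lift i hi g hg := by
    rw [← image_seg_two (i := i) (by omega), ← range_embS (seg_injective _) A.hF] at hg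
    obtain ⟨a, rfl⟩ := hg
    exact ⟨_, (A.mem_gu hi).2 ⟨a, rfl⟩, rfl⟩
  GP_mem i hi x hx := A.gp_snd hi hx
  GP_lift i hi g hg := by
    rw [← image_seg_three (i := i) (by omega), ← range_embS (seg_injective _) A.hF] at hg
    obtain ⟨a, rfl⟩ := hg
    exact ⟨_, (A.mem_gp hi).2 ⟨a, rfl⟩, rfl⟩
  le0 i hi x hx := by
    obtain ⟨a, rfl⟩ := (A.mem_gu (by omega)).1 hx
    exact (A.mem_gp hi).2 ⟨e01 a, Prod.ext (DFunLike.congr_fun (A.h01 i hi) a) (embS_trip01 _ a)⟩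
  le1 i hi x hx := by
    obtain ⟨a, rfl⟩ := (A.mem_gu hi).1 hx
    exact (A.mem_gp hi).2 ⟨e12 a, Prod.ext (DFunLike.congr_fun (A.h12 i hi) a) (embS_trip12 _ a)⟩
  farUU i j hij hj x hx y hy := by
    have hx' := A.gu_snd (show i < n by omega) hx
    have hy' := A.gu_snd hj hy
    obtain ⟨a, rfl⟩ := (A.mem_gu (by omega)).1 hx
    obtain ⟨b, rfl⟩ := (A.mem_gu hj).1 hy
    refine Prod.ext (A.farUU i j hij hj a b) (commute_fixT A.hF ?_ hx' hy')
    refine Finset.disjoint_left.mpr fun l hl hl' => ?_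
    rw [mem_pairT] at hl hl'
    omega
  farUP i j hij hj x hx y hy := by
    have hx' := A.gu_snd (show i < n by omega) hx
    have hy' := A.gp_snd hj hy
    obtain ⟨a, rfl⟩ := (A.mem_gu (by omega)).1 hx
    obtain ⟨b, rfl⟩ := (A.mem_gp hj).1 hy
    refine Prod.ext (A.farUP i j hij hj a b) (commute_fixT A.hF ?_ hx' hy')
    refine Finset.disjoint_left.mpr fun l hl hl' => ?_
    simp [mem_pairT, tripT] at hl hl'
    omega
  farPU i j hij hj x hx y hy := by
    have hx' := A.gp_snd (show i + 1 < n by omega) hx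
    have hy' := A.gu_snd hj hy
    obtain ⟨a, rfl⟩ := (A.mem_gp (by omega)).1 hx
    obtain ⟨b, rfl⟩ := (A.mem_gu hj).1 hy
    refine Prod.ext (A.farPU i j hij hj a b) (commute_fixT A.hF ?_ hx' hy')
    refine Finset.disjoint_left.mpr fun l hl hl' => ?_
    simp [mem_pairT, tripT] at hl hl'
    omega
  farPP i j hij hj x hx y hy := by
    have hx' := A.gp_snd (show i + 1 < n by omega) hx
    have hy' := A.gp_snd hj hy
    obtain ⟨a, rfl⟩ := (A.mem_gp (by omega)).1 hx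
    obtain ⟨b, rfl⟩ := (A.mem_gp hj).1 hy
    refine Prod.ext (A.farPP i j hij hj a b) (commute_fixT A.hF ?_ hx' hy')
    refine Finset.disjoint_left.mpr fun l hl hl' => ?_
    simp [tripT] at hl hl'
    omega
  quad i hi := by
    obtain ⟨Φ, h1, h2⟩ := A.quad i hi
    have hs : i + 4 ≤ n + 1 := by omega
    have hle : A.gp i ⊔ A.gp (i + 1) ≤ (Φ.prod (embS (seg_injective hs))).range := by
      refine sup_le (fun x hx => ?_) (fun x hx => ?_)
      · obtain ⟨a, rfl⟩ := (A.mem_gp (by omega)).1 hx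
        exact ⟨emb inj012 a, Prod.ext (DFunLike.congr_fun h1 a) (quad_trip hs a).1⟩
      · obtain ⟨a, rfl⟩ := (A.mem_gp (by omega)).1 hx
        exact ⟨emb inj123 a, Prod.ext (DFunLike.congr_fun h2 a) (quad_trip hs a).2⟩
    intro x hx h
    obtain ⟨y, rfl⟩ := hle hx
    have : y = 1 := embS_injective _ (h.trans (map_one _).symm)
    rw [this, map_one]

theorem exists_hom : ∃ f : Cfsg.SU (n + 1) F 2 →* G,
    (∀ i, i < n → (A.φ i).range ≤ f.range) ∧ ∀ i, i + 1 < n → (A.ψ i).range ≤ f.range := by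
  obtain ⟨Φ, hU, hP⟩ := A.data.exists_hom
  refine ⟨Φ.comp (suEquiv (n + 1) F 2).toMonoidHom, ?_, ?_⟩ <;>
    rw [MonoidHom.range_comp, MonoidHom.range_eq_top.mpr (suEquiv (n + 1) F 2).surjective,
      ← MonoidHom.range_eq_map]
  · rintro i hi _ ⟨a, rfl⟩
    exact ⟨_, hU i hi _ ((A.mem_gu hi).2 ⟨a, rfl⟩)⟩
  · rintro i hi _ ⟨a, rfl⟩
    exact ⟨_, hP i hi _ ((A.mem_gp hi).2 ⟨a, rfl⟩)⟩

end Aligned

/-- Weak Phan systems over the field with four elements. -/
theorem weak_phan_system (hF : SqField F 2) (hn : 4 ≤ n)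
    (U : Fin n → Subgroup G) (V : Fin n → Fin n → Subgroup G)
    (h1 : ∀ i j : Fin n, (i : ℕ) + 2 ≤ j → ∀ x ∈ U i, ∀ y ∈ U j, x * y = y * x)
    (h2 : ∀ i j : Fin n, (i : ℕ) + 1 = j → Cfsg.IsStandardUnitaryPair (V i j) (U i) (U j) F 2)
    (hgen : (⨆ i, U i) ⊔ (⨆ (i : Fin n) (j : Fin n) (_ : (i : ℕ) + 1 = j), V i j) = ⊤)
    (h4 : ∀ i j k : Fin n, (i : ℕ) + 1 = j → (j : ℕ) + 1 = k →
      ∃ g : ↥(Cfsg.SU 4 F 2) →* ↥(V i j ⊔ V j k), Function.Surjective g)
    (h5 : ∀ i j k : Fin n, (j : ℕ) + 1 = k → ((i : ℕ) + 2 ≤ j ∨ (k : ℕ) + 2 ≤ i) →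
      ∀ x ∈ U i, ∀ y ∈ V j k, x * y = y * x)
    (h6 : ∀ i j k l : Fin n, (i : ℕ) + 1 = j → (k : ℕ) + 1 = l → (j : ℕ) + 2 ≤ k →
      ∀ x ∈ V i j, ∀ y ∈ V k l, x * y = y * x) :
    ∃ f : ↥(Cfsg.SU (n + 1) F 2) →* G, Function.Surjective f := by
  obtain ⟨K⟩ := Four.exists_four hF
  have eU : ∀ i (hi : i < n), ext0 U i = U ⟨i, hi⟩ := fun i hi => dif_pos hi
  have eV : ∀ i (hi : i + 1 < n), ext2 V i = V ⟨i, by omega⟩ ⟨i + 1, hi⟩ := fun i hi => dif_pos hi
  obtain ⟨ψ, hψ⟩ := exists_aligned hF le_rfl n (ext0 U) (ext2 V)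
    (fun i j hij hj x hx y hy => by
      rw [eU i (by omega)] at hx
      rw [eU j hj] at hy
      exact h1 _ _ hij x hx y hy)
    (fun i hi => by
      rw [eU i (by omega), eU (i + 1) hi, eV i hi]
      exact h2 _ _ rfl)
  let φ : ℕ → (Cfsg.SU 2 F 2 →* G) := fun i =>
    if i + 1 < n then (ψ i).comp e01 else (ψ (i - 1)).comp e12
  have hr : ∀ i, i < n → (φ i).range = ext0 U i := fun i hi => by
    by_cases h : i + 1 < n
    · show (ite _ _ _ : Cfsg.SU 2 F 2 →* G).range = _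
      rw [if_pos h]; exact (hψ i h).2.1
    · show (ite _ _ _ : Cfsg.SU 2 F 2 →* G).range = _
      rw [if_neg h]
      have := (hψ (i - 1) (by omega)).2.2.1
      rwa [show i - 1 + 1 = i by omega] at this
  have hrV : ∀ i (hi : i + 1 < n), (ψ i).range = V ⟨i, by omega⟩ ⟨i + 1, hi⟩ := fun i hi =>
    (hψ i hi).2.2.2.1.trans (eV i hi)
  have mU : ∀ i (hi : i < n) a, φ i a ∈ U ⟨i, hi⟩ := fun i hi a =>
    eU i hi ▸ (hr i hi).le ⟨a, rfl⟩
  have mV : ∀ i (hi : i + 1 < n) a, ψ i a ∈ V ⟨i, by omega⟩ ⟨i + 1, hi⟩ := fun i hi a =>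
    (hrV i hi).le ⟨a, rfl⟩
  let A : Aligned F n G :=
    { hF := hF, four_le := hn, φ := φ, ψ := ψ
      h01 := fun i hi => (if_pos hi).symm
      h12 := fun i hi => by
        show (ψ i).comp e12 = if i + 1 + 1 < n then (ψ (i + 1)).comp e01 else (ψ (i + 1 - 1)).comp e12
        by_cases h : i + 1 + 1 < n
        · rw [if_pos h, (hψ (i + 1) h).2.2.2.2 (by omega), Nat.add_sub_cancel]
        · rw [if_neg h, Nat.add_sub_cancel]
      farUU := fun i j hij hj x y => h1 ⟨i, by omega⟩ ⟨j, hj⟩ hij _ (mU i (by omega) x) _ (mU j hj y)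
      farUP := fun i j hij hj x y =>
        h5 ⟨i, by omega⟩ ⟨j, by omega⟩ ⟨j + 1, hj⟩ rfl (Or.inl hij) _ (mU i (by omega) x) _
          (mV j hj y)
      farPU := fun i j hij hj x y =>
        (h5 ⟨j, hj⟩ ⟨i, by omega⟩ ⟨i + 1, by omega⟩ rfl (Or.inr (by show i + 1 + 2 ≤ j; omega)) _
          (mU j hj y) _ (mV i (by omega) x)).symm
      farPP := fun i j hij hj x y =>
        h6 ⟨i, by omega⟩ ⟨i + 1, by omega⟩ ⟨j, by omega⟩ ⟨j + 1, hj⟩ rfl rfl
          (by show i + 1 + 2 ≤ j; omega) _ (mV i (by omega) x) _ (mV j hj y)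
      quad := fun i hi => by
        obtain ⟨g, hg⟩ := h4 ⟨i, by omega⟩ ⟨i + 1, by omega⟩ ⟨i + 2, hi⟩ rfl rfl
        have hgr : ((Subgroup.subtype _).comp g).range
            = V ⟨i, by omega⟩ ⟨i + 1, by omega⟩ ⊔ V ⟨i + 1, by omega⟩ ⟨i + 2, hi⟩ := by
          rw [MonoidHom.range_comp, MonoidHom.range_eq_top.mpr hg, ← MonoidHom.range_eq_map,
            Subgroup.range_subtype]
        refine exists_quad K (ψ i) (ψ (i + 1)) (hψ i (by omega)).1 (hψ (i + 1) hi).1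
          ((hψ (i + 1) hi).2.2.2.2 (by omega)).symm (fun x y => ?_) ((Subgroup.subtype _).comp g)
          (by rw [hgr, hrV i (by omega)]; exact le_sup_left)
          (by rw [hgr, hrV (i + 1) hi]; exact le_sup_right)
        refine h1 ⟨i, by omega⟩ ⟨i + 2, hi⟩ le_rfl _ ?_ _ ?_
        · have := (hψ i (by omega)).2.1.le ⟨x, rfl⟩
          rwa [eU i (by omega)] at this
        · have := (hψ (i + 1) hi).2.2.1.le ⟨y, rfl⟩
          rwa [eU (i + 1 + 1) (by omega)] at this }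
  obtain ⟨f, hfU, hfP⟩ := A.exists_hom
  refine ⟨f, MonoidHom.range_eq_top.mp (top_unique (hgen ▸ ?_))⟩
  refine sup_le (iSup_le fun i => ?_) (iSup_le fun i => iSup_le fun j => iSup_le fun hij => ?_)
  · have h := hfU i i.2
    rw [show (A.φ i).range = ext0 U i from hr i i.2, eU i i.2] at h
    exact h
  · have hi : (i : ℕ) + 1 < n := hij ▸ j.2
    have h := hfP i hi
    rw [show (A.ψ i).range = V ⟨i, by omega⟩ ⟨i + 1, hi⟩ from hrV i hi] at h
    rw [show j = ⟨(i : ℕ) + 1, hi⟩ from Fin.ext hij.symm]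
    exact h

end

end Cfsg.Agent.PhanSU.Two
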